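import Mathlib

/-!
Transitive linear actions in which the centraliser of an element acting irreducibly is studied
through the finite field it generates.
-/

set_option autoImplicit false

namespace Cfsg.Agent.Transfer.KThree

variable {E V : Type*} [Group E] [CommGroup V] [MulDistribMulAction E V]

variable (V) in
/-- The endomorphism of the additive group given by an element. -/
def endOf : E →* AddMonoid.End (Additive V) where
  toFun e := (MulDistribMulAction.toMonoidHom V e).toAdditive
  map_one' := by
    refine DFunLike.ext _ _ fun x => ?_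
    show Additive.ofMul ((1 : E) • Additive.toMul x) = x
    rw [one_smul]
    rfl
  map_mul' := fun a b => by
    refine DFunLike.ext _ _ fun x => ?_
    show Additive.ofMul ((a * b) • Additive.toMul x) =
      Additive.ofMul (a • b • Additive.toMul x)
    rw [mul_smul]

theorem endOf_apply (e : E) (v : V) : endOf V e (Additive.ofMul v) = Additive.ofMul (e • v) := rfl

theorem endOf_injective [FaithfulSMul E V] : Function.Injective (endOf V : E → AddMonoid.End (Additive V)) :=
  fun a b h => eq_of_smul_eq_smul fun v : V =>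
    Additive.ofMul.injective (DFunLike.congr_fun h (Additive.ofMul v))

/-- The fixed points of an element. -/
def fix (g : E) : Subgroup V where
  carrier := {v | g • v = v}
  one_mem' := smul_one g
  mul_mem' := fun {a b} ha hb => by
    show g • (a * b) = a * b
    rw [smul_mul', show g • a = a from ha, show g • b = b from hb]
  inv_mem' := fun {a} ha => by
    show g • a⁻¹ = a⁻¹
    rw [smul_inv', show g • a = a from ha]

theorem mem_fix {g : E} {v : V} : v ∈ fix g ↔ g • v = v := Iff.rfl

theorem fix_ne_top [FaithfulSMul E V] {g : E} (hg : g ≠ 1) : (fix g : Subgroup V) ≠ ⊤ := fun h =>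
  hg (eq_of_smul_eq_smul fun v : V => by
    rw [one_smul]
    exact mem_fix.1 (h ▸ Subgroup.mem_top v))

variable [Finite V] {p n r : ℕ}

theorem exists_card_eq (hp : p.Prime) (hV : Nat.card V = p ^ n) (W : Subgroup V) :
    ∃ k ≤ n, Nat.card W = p ^ k :=
  (Nat.dvd_prime_pow hp).1 (hV ▸ W.card_subgroup_dvd_card)

/-- An element of prime order `r` acting on an invariant subgroup permutes the points outside
its fixed points in orbits of length `r`. -/
theorem card_modEq (hr : r.Prime) {g : E} (hg : g ^ r = 1) (W : Subgroup V)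
    (hW : ∀ v ∈ W, g • v ∈ W) :
    Nat.card W ≡ Nat.card (W ⊓ fix g : Subgroup V) [MOD r] := by
  classical
  haveI := Fact.mk hr
  cases nonempty_fintype V
  haveI : Finite W := inferInstance
  let σ : Function.End W := fun v : W => (⟨g • (v : V), hW v v.2⟩ : W)
  have hσ : ∀ (k : ℕ) (v : W), (((σ ^ k) v : W) : V) = g ^ k • (v : V) := by
    intro k
    induction k with
    | zero =>
      intro v
      rw [pow_zero, pow_zero, one_smul]
      rfl
    | succ k ih =>
      intro v
      rw [pow_succ', pow_succ', mul_smul, ← ih v]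
      rfl
  have hpow : σ ^ r ^ 1 = 1 := funext fun v => Subtype.ext (by
    rw [pow_one, hσ, hg, one_smul]; rfl)
  have h := Equiv.Perm.card_fixedPoints_modEq (p := r) hpow
  rw [Nat.card_eq_fintype_card (α := W)]
  refine h.trans (congrArg (· % r) ?_)
  let e : ↥(Function.fixedPoints σ) ≃ ↥(W ⊓ fix g : Subgroup V) :=
    { toFun := fun v => ⟨((v : W) : V), (v : W).2, congrArg Subtype.val v.2⟩
      invFun := fun v => ⟨⟨(v : V), v.2.1⟩, Subtype.ext v.2.2⟩
      left_inv := fun v => rfl
      right_inv := fun v => rfl }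
  rw [← Nat.card_eq_fintype_card]
  exact Nat.card_congr e

theorem pow_modEq_eq (hp : p.Prime) (hr : r.Prime) (hpr : ¬ r ∣ p)
    (hprim : ∀ i, 1 ≤ i → i < n → ¬ r ∣ p ^ i - 1) {j k : ℕ} (hjk : j ≤ k) (hlt : k - j < n)
    (h : p ^ k ≡ p ^ j [MOD r]) : j = k := by
  by_contra hne
  have h1 : p ^ j * p ^ (k - j) ≡ p ^ j * 1 [MOD r] := by
    rwa [← pow_add, Nat.add_sub_cancel' hjk, mul_one]
  have h2 := Nat.ModEq.cancel_left_of_coprime
    ((Nat.Coprime.pow_right j ((hr.coprime_iff_not_dvd).2 hpr))) h1
  exact hprim (k - j) (by omega) hlt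
    ((Nat.modEq_iff_dvd' (Nat.one_le_pow _ _ hp.pos)).1 h2.symm)

/-- An element whose order is a primitive prime divisor acts irreducibly and without fixed
points. -/
theorem irreducible [FaithfulSMul E V] (hp : p.Prime) (hV : Nat.card V = p ^ n) (hr : r.Prime)
    (hpr : ¬ r ∣ p) (hprim : ∀ i, 1 ≤ i → i < n → ¬ r ∣ p ^ i - 1) {g : E} (hg : g ^ r = 1)
    (hg1 : g ≠ 1) (W : Subgroup V) (hW : ∀ v ∈ W, g • v ∈ W) : W = ⊥ ∨ W = ⊤ := by
  have key : ∀ X : Subgroup V, X ≠ ⊤ → (∀ v ∈ X, g • v ∈ X) → X ≤ fix g := by
    intro X hX hXg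
    obtain ⟨k, hkn, hk⟩ := exists_card_eq hp hV X
    obtain ⟨j, -, hj⟩ := exists_card_eq hp hV (X ⊓ fix g)
    have hjk : j ≤ k := (Nat.pow_le_pow_iff_right hp.one_lt).1
      (hk ▸ hj ▸ Subgroup.card_le_of_le inf_le_left)
    have hlt : k < n := lt_of_le_of_ne hkn fun h => hX
      (Subgroup.eq_top_of_card_eq X (by rw [hk, hV, h]))
    have h := card_modEq hr hg X hXg
    rw [hk, hj] at h
    have he := pow_modEq_eq hp hr hpr hprim hjk (by omega) h
    have : X ⊓ fix g = X := Subgroup.eq_of_le_of_card_ge inf_le_left (by rw [hk, hj, he])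
    exact inf_eq_left.1 this
  have hbot : (fix g : Subgroup V) = ⊥ := by
    by_contra hne
    obtain ⟨j, -, hj⟩ := exists_card_eq hp hV (fix g : Subgroup V)
    have h := card_modEq hr hg (⊤ : Subgroup V) (fun _ _ => Subgroup.mem_top _)
    rw [top_inf_eq, Subgroup.card_top, hV, hj] at h
    have hjn : j < n := by
      refine lt_of_le_of_ne ?_ fun h' => fix_ne_top (V := V) hg1
        (Subgroup.eq_top_of_card_eq _ (by rw [hj, hV, h']))
      exact (Nat.pow_le_pow_iff_right hp.one_lt).1 (hj ▸ hV ▸ Subgroup.card_le_card_group _)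
    have hj0 : j ≠ 0 := fun h0 => hne (Subgroup.card_eq_one.1 (by rw [hj, h0, pow_zero]))
    have := pow_modEq_eq hp hr hpr hprim hjn.le (by omega) h
    omega
  by_cases hT : W = ⊤
  · exact Or.inr hT
  · exact Or.inl (eq_bot_iff.2 (hbot ▸ key W hT hW))

/-- The centraliser ring of an element. -/
def cring (g : E) : Subring (AddMonoid.End (Additive V)) := Subring.centralizer {endOf V g}

theorem cring_apply {g : E} {f : AddMonoid.End (Additive V)} (hf : f ∈ cring g) (v : V) :
    f (Additive.ofMul (g • v)) = endOf V g (f (Additive.ofMul v)) :=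
  (DFunLike.congr_fun (Subring.mem_centralizer_iff.1 hf _ rfl) (Additive.ofMul v)).symm

theorem cring_injective {g : E} (hirr : ∀ W : Subgroup V, (∀ v ∈ W, g • v ∈ W) → W = ⊥ ∨ W = ⊤)
    {f : AddMonoid.End (Additive V)} (hf : f ∈ cring g) (hf0 : f ≠ 0) :
    Function.Injective f := by
  refine (injective_iff_map_eq_zero _).2 fun x hx => ?_
  let W : Subgroup V :=
    { carrier := {v | f (Additive.ofMul v) = 0}
      one_mem' := map_zero f
      mul_mem' := fun {a b} ha hb => by
        show f (Additive.ofMul (a * b)) = 0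
        rw [ofMul_mul, map_add, show f (Additive.ofMul a) = 0 from ha,
          show f (Additive.ofMul b) = 0 from hb, add_zero]
      inv_mem' := fun {a} ha => by
        show f (Additive.ofMul a⁻¹) = 0
        rw [ofMul_inv, map_neg, show f (Additive.ofMul a) = 0 from ha, neg_zero] }
  rcases hirr W (fun v hv => by
    show f (Additive.ofMul (g • v)) = 0
    rw [cring_apply hf, show f (Additive.ofMul v) = 0 from hv, map_zero]) with h | h
  · have h1 : Additive.toMul x ∈ W := hx
    rw [h, Subgroup.mem_bot] at h1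
    exact Additive.toMul.injective h1
  · exfalso
    refine hf0 (DFunLike.ext _ _ fun y => ?_)
    have h1 : Additive.toMul y ∈ W := h ▸ Subgroup.mem_top _
    exact h1

theorem cring_isDomain [FaithfulSMul E V] [Nontrivial V] {g : E}
    (hirr : ∀ W : Subgroup V, (∀ v ∈ W, g • v ∈ W) → W = ⊥ ∨ W = ⊤) :
    IsDomain (cring (V := V) g) := by
  haveI : Nontrivial (cring (V := V) g) := ⟨⟨0, 1, fun h => by
    obtain ⟨v, hv⟩ := exists_ne (1 : V)
    exact hv (Additive.ofMul.injective
      (DFunLike.congr_fun (congrArg Subtype.val h) (Additive.ofMul v)).symm)⟩⟩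
  haveI : NoZeroDivisors (cring (V := V) g) := ⟨fun {a b} hab => by
    by_contra hne
    push Not at hne
    refine hne.2 (Subtype.ext (DFunLike.ext _ _ fun x => ?_))
    have h1 : (a : AddMonoid.End (Additive V)) ((b : AddMonoid.End (Additive V)) x) = 0 :=
      DFunLike.congr_fun (congrArg Subtype.val hab) x
    rw [← map_zero (a : AddMonoid.End (Additive V))] at h1
    exact cring_injective hirr a.2 (fun h => hne.1 (Subtype.ext h)) h1⟩
  exact NoZeroDivisors.to_isDomain _

theorem endOf_mem {g h : E} (hh : h ∈ Subgroup.centralizer ({g} : Set E)) :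
    endOf V h ∈ cring g := by
  refine Subring.mem_centralizer_iff.2 fun f hf => ?_
  rw [Set.mem_singleton_iff.1 hf, ← map_mul, ← map_mul,
    Subgroup.mem_centralizer_singleton_iff.1 hh]

theorem cring_card_le {g : E} (hirr : ∀ W : Subgroup V, (∀ v ∈ W, g • v ∈ W) → W = ⊥ ∨ W = ⊤)
    [Nontrivial V] : Nat.card (cring (V := V) g) ≤ Nat.card V := by
  obtain ⟨v, hv⟩ := exists_ne (1 : V)
  refine le_trans (Nat.card_le_card_of_injective
    (fun f : cring (V := V) g => (f : AddMonoid.End (Additive V)) (Additive.ofMul v))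
    fun a b h => ?_) (le_of_eq (Nat.card_congr Additive.toMul))
  by_contra hne
  refine hv (Additive.ofMul.injective ?_)
  refine cring_injective hirr (sub_mem a.2 b.2) (fun h0 => hne (Subtype.ext (sub_eq_zero.1 h0))) ?_
  show (a : AddMonoid.End (Additive V)) (Additive.ofMul v) -
      (b : AddMonoid.End (Additive V)) (Additive.ofMul v) =
    (a : AddMonoid.End (Additive V)) (Additive.ofMul 1) -
      (b : AddMonoid.End (Additive V)) (Additive.ofMul 1)
  rw [ofMul_one, map_zero, map_zero, sub_self,
    show (a : AddMonoid.End (Additive V)) (Additive.ofMul v) =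
      (b : AddMonoid.End (Additive V)) (Additive.ofMul v) from h, sub_self]

/-- The centraliser of an element acting irreducibly is cyclic, and its conjugates among its
powers come from field automorphisms. -/
theorem cyclic_and_frobenius [Finite E] [FaithfulSMul E V] [Nontrivial V] (hp : p.Prime)
    (hV : Nat.card V = p ^ n) (hexp : ∀ v : V, v ^ p = 1) {g : E}
    (hirr : ∀ W : Subgroup V, (∀ v ∈ W, g • v ∈ W) → W = ⊥ ∨ W = ⊤) :
    IsCyclic (Subgroup.centralizer ({g} : Set E)) ∧
      ∀ j : ℕ, (orderOf g).Coprime j → IsConj g (g ^ j) → ∃ i < n, g ^ j = g ^ p ^ i := by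
  classical
  haveI := Fact.mk hp
  haveI : Finite (AddMonoid.End (Additive V)) :=
    Finite.of_injective (fun f : AddMonoid.End (Additive V) => (f : Additive V → Additive V))
      DFunLike.coe_injective
  haveI := cring_isDomain hirr
  letI : Field (cring (V := V) g) := (Finite.isDomain_to_isField _).toField
  constructor
  · refine isCyclic_of_injective_ringHom (R := cring (V := V) g)
      { toFun := fun h : Subgroup.centralizer ({g} : Set E) => ⟨endOf V (h : E), endOf_mem h.2⟩
        map_one' := Subtype.ext (map_one _)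
        map_mul' := fun a b => Subtype.ext (map_mul _ _ _) }
      fun a b h => Subtype.ext (endOf_injective (congrArg Subtype.val h))
  intro j hj hc
  obtain ⟨h, hh⟩ := isConj_iff.1 hc
  haveI : CharP (cring (V := V) g) p := by
    refine (CharP.charP_iff_prime_eq_zero hp).2 ?_
    refine Subtype.ext (DFunLike.ext _ _ fun x => ?_)
    show ((p : AddMonoid.End (Additive V)) x) = 0
    rw [AddMonoid.End.natCast_apply]
    exact Additive.toMul.injective (hexp _)
  obtain ⟨m, hm⟩ : ∃ m, Nat.card (cring (V := V) g) = p ^ m := by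
    letI := Fintype.ofFinite (cring (V := V) g)
    obtain ⟨m, -, hm⟩ := FiniteField.card (cring (V := V) g) p
    exact ⟨m, by rw [Nat.card_eq_fintype_card, hm]⟩
  have hmn : m ≤ n := (Nat.pow_le_pow_iff_right hp.one_lt).1 (hm ▸ hV ▸ cring_card_le hirr)
  -- conjugation by `h` is an automorphism of the field
  have hgen : Subgroup.zpowers (g ^ j) = Subgroup.zpowers g := by
    refine Subgroup.eq_of_le_of_card_ge (Subgroup.zpowers_le.2 (pow_mem (Subgroup.mem_zpowers g) j)) ?_
    rw [Nat.card_zpowers, Nat.card_zpowers, hj.orderOf_pow]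
  have hcon : ∀ f ∈ cring (V := V) g,
      endOf V h * f * endOf V h⁻¹ ∈ cring (V := V) g := by
    intro f hf
    have h1 : ∀ y ∈ Subgroup.zpowers g, endOf V y * f = f * endOf V y := by
      intro y hy
      obtain ⟨k, rfl⟩ := (isOfFinOrder_of_finite g).mem_powers_iff_mem_zpowers.2 hy
      rw [map_pow]
      exact (Commute.pow_left (Subring.mem_centralizer_iff.1 hf _ rfl) k)
    refine Subring.mem_centralizer_iff.2 fun y hy => ?_
    rw [Set.mem_singleton_iff.1 hy]
    have hy' : h⁻¹ * g * h ∈ Subgroup.zpowers g := by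
      have : g ∈ Subgroup.zpowers (g ^ j) := hgen ▸ Subgroup.mem_zpowers g
      obtain ⟨k, hk⟩ := Subgroup.mem_zpowers_iff.1 this
      have e : h⁻¹ * g * h = g ^ k := by
        calc h⁻¹ * g * h = h⁻¹ * (g ^ j) ^ k * h := by rw [hk]
          _ = h⁻¹ * (h * g * h⁻¹) ^ k * h := by rw [hh]
          _ = g ^ k := by rw [conj_zpow]; group
      rw [e]
      exact zpow_mem (Subgroup.mem_zpowers g) _
    have e1 : endOf V g * endOf V h = endOf V h * endOf V (h⁻¹ * g * h) := by
      rw [← map_mul, ← map_mul]; group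
    have e2 : endOf V (h⁻¹ * g * h) * endOf V h⁻¹ = endOf V h⁻¹ * endOf V g := by
      rw [← map_mul, ← map_mul]; group
    calc endOf V g * (endOf V h * f * endOf V h⁻¹)
        = endOf V h * (endOf V (h⁻¹ * g * h) * f) * endOf V h⁻¹ := by
          simp only [← mul_assoc, e1]
      _ = endOf V h * f * (endOf V (h⁻¹ * g * h) * endOf V h⁻¹) := by
          rw [h1 _ hy']; simp only [mul_assoc]
      _ = endOf V h * f * endOf V h⁻¹ * endOf V g := by
          rw [e2]; simp only [mul_assoc]
  have hinv : endOf V h⁻¹ * endOf V h = 1 ∧ endOf V h * endOf V h⁻¹ = 1 := by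
    constructor <;> rw [← map_mul] <;> simp
  let σ : cring (V := V) g →+* cring (V := V) g :=
    { toFun := fun f => ⟨_, hcon f f.2⟩
      map_one' := Subtype.ext (by simp [hinv.2])
      map_mul' := fun a b => Subtype.ext (by
        simp only [Subring.coe_mul, mul_assoc]
        rw [← mul_assoc (endOf V h⁻¹) (endOf V h), hinv.1, one_mul])
      map_zero' := Subtype.ext (by simp)
      map_add' := fun a b => Subtype.ext (by simp [mul_add, add_mul]) }
  letI := Fintype.ofFinite (cring (V := V) g)
  letI := ZMod.algebra (cring (V := V) g) p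
  have hfr : Module.finrank (ZMod p) (cring (V := V) g) = m := by
    have h1 := Module.card_eq_pow_finrank (K := ZMod p) (V := cring (V := V) g)
    rw [ZMod.card, ← Nat.card_eq_fintype_card, hm] at h1
    exact (Nat.pow_right_injective hp.two_le h1).symm
  let τ : cring (V := V) g ≃ₐ[ZMod p] cring (V := V) g :=
    AlgEquiv.ofRingEquiv (f := RingEquiv.ofBijective σ (Finite.injective_iff_bijective.1 σ.injective))
      fun x => RingHom.congr_fun (RingHom.ext_zmod (σ.comp (algebraMap (ZMod p) _))
        (algebraMap (ZMod p) _)) x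
  obtain ⟨⟨i, hi⟩, he⟩ :=
    (FiniteField.bijective_frobeniusAlgEquivOfAlgebraic_pow (ZMod p) (cring (V := V) g)).2 τ
  refine ⟨i, lt_of_lt_of_le (hfr ▸ hi) hmn, endOf_injective (V := V) ?_⟩
  have h1 : τ ⟨endOf V g, endOf_mem (Subgroup.mem_centralizer_singleton_iff.2 rfl)⟩ =
      (⟨endOf V g, endOf_mem (Subgroup.mem_centralizer_singleton_iff.2 rfl)⟩ :
        cring (V := V) g) ^ p ^ i := by
    rw [← he, AlgEquiv.coe_pow, FiniteField.coe_frobeniusAlgEquivOfAlgebraic, pow_iterate,
      ZMod.card]
  rw [map_pow _ g (p ^ i)]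
  rw [← hh, map_mul, map_mul]
  exact congrArg Subtype.val h1

end Cfsg.Agent.Transfer.KThree
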