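import Cfsg.Agent.Lib.Char.OverCyclic
import Cfsg.Agent.Lib.Char.ExtendMain

/-!
When at most two characters lie over an invariant character, all elements of the quotient with
cyclic centraliser are conjugate.
-/

open scoped ComplexConjugate

namespace Cfsg.Agent.Transfer.KThree

open Cfsg Cfsg.Agent.Char

set_option linter.unusedSectionVars false
set_option linter.style.haveILetI false

universe u

variable {T : Type u} [Group T] [Fintype T] {C : Subgroup T} [hC : C.Normal] [Fintype C]

open scoped Classical in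
/-- The characters over a character. -/
noncomputable def lying (C : Subgroup T) [Fintype C] (θ : C → ℂ) : Finset (IrrCharacter T) :=
  Finset.univ.filter fun χ : IrrCharacter T => classInner (fun c : C => (χ : T → ℂ) c) θ ≠ 0

theorem mem_lying {θ : C → ℂ} {χ : IrrCharacter T} :
    χ ∈ lying C θ ↔ classInner (fun c : C => (χ : T → ℂ) c) θ ≠ 0 := by
  simp [lying]

/-- The degrees over an invariant character. -/
theorem sum_sq {θ : C → ℂ} (hθ : IsIrrCharacter C θ) (hinv : inertia C θ = ⊤) :
    ∃ e : IrrCharacter T → ℕ, Nat.card (T ⧸ C) = ∑ χ ∈ lying C θ, e χ ^ 2 := by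
  classical
  obtain ⟨a, ha, hdec⟩ := IsChar.exists_decomp_inner (isCharacter_indFun C (IsIrr.isCharacter hθ))
  refine ⟨a, ?_⟩
  have hsub : ∀ χ : IrrCharacter T, χ ∉ lying C θ → a χ = 0 := by
    intro χ hχ
    have h1 := ha χ
    rw [classInner_indFun C θ (IsIrr.classFun χ.2), ← classInner_conj_symm,
      not_not.1 (fun h => hχ (mem_lying.2 h)), map_zero] at h1
    exact_mod_cast h1.symm
  have h := norm_indFun C hθ
  have hn : classInner (indFun C θ) (indFun C θ) = ((∑ χ : IrrCharacter T, a χ ^ 2 : ℕ) : ℂ) := by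
    conv_lhs => arg 1; rw [hdec]
    rw [classInner_sum_left]
    push_cast
    refine Finset.sum_congr rfl fun χ _ => ?_
    rw [classInner_smul_left, ← classInner_conj_symm (indFun C θ) (χ : T → ℂ), ha,
      Complex.conj_natCast]
    ring
  rw [hn, hinv, Subgroup.card_top, ← Nat.cast_mul, Nat.cast_inj] at h
  rw [← Finset.sum_subset (Finset.subset_univ (lying C θ))
    (fun χ _ hχ => by rw [hsub χ hχ]; rfl)] at h
  rw [← Subgroup.index_eq_card]
  refine Nat.eq_of_mul_eq_mul_left (Nat.card_pos (α := C)) ?_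
  rw [h, Subgroup.card_mul_index]

/-- The function of an element with cyclic centraliser in the quotient. -/
theorem exists_good {θ : C → ℂ} (hθ : IsIrrCharacter C θ) (hinv : inertia C θ = ⊤) {z : T ⧸ C}
    (hcyc : IsCyclic (Subgroup.centralizer ({z} : Set (T ⧸ C)))) :
    ∃ φ : T → ℂ, φ ∈ Submodule.span ℂ
        ((fun χ : IrrCharacter T => (χ : T → ℂ)) '' (lying C θ : Set (IrrCharacter T))) ∧
      (∀ h : T, ¬ IsConj (h : T ⧸ C) z → φ h = 0) ∧ ∃ h : T, (h : T ⧸ C) = z ∧ φ h ≠ 0 := by
  classical
  set π := QuotientGroup.mk' C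
  set X : Subgroup T := (Subgroup.centralizer ({z} : Set (T ⧸ C))).comap π with hX
  letI := Fintype.ofFinite X
  have hCX : C ≤ X := fun c hc => by
    show (c : T ⧸ C) ∈ Subgroup.centralizer ({z} : Set (T ⧸ C))
    rw [(QuotientGroup.eq_one_iff c).2 hc]
    exact one_mem _
  set K := C.subgroupOf X with hK
  haveI : K.Normal := Subgroup.Normal.subgroupOf inferInstance _
  letI := Fintype.ofFinite K
  set θK : K → ℂ := fun k => θ ⟨((k : X) : T), k.2⟩
  have hθK : IsIrrCharacter K θK := IsIrr.comp_mulEquiv (Subgroup.subgroupOfEquivOfLe hCX) hθ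
  -- an extension
  have hcycK : IsCyclic (X ⧸ K) := by
    haveI := hcyc
    let f : X ⧸ K →* Subgroup.centralizer ({z} : Set (T ⧸ C)) :=
      QuotientGroup.lift K
        { toFun := fun x => ⟨((x : T) : T ⧸ C), x.2⟩
          map_one' := Subtype.ext rfl
          map_mul' := fun a b => Subtype.ext rfl }
        fun x hx => Subtype.ext ((QuotientGroup.eq_one_iff (x : T)).2 hx)
    refine isCyclic_of_injective f ((injective_iff_map_eq_one f).2 fun q hq => ?_)
    induction q using QuotientGroup.induction_on with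
    | _ x =>
      exact (QuotientGroup.eq_one_iff x).2
        ((QuotientGroup.eq_one_iff (x : T)).1 (congrArg Subtype.val hq))
  have hinvK : inertia K θK = ⊤ := by
    refine eq_top_iff.2 fun x _ => (mem_inertia K).2 (funext fun k => ?_)
    have h := congrFun ((mem_inertia C).1 (hinv ▸ Subgroup.mem_top (x : T))) ⟨((k : X) : T), k.2⟩
    simpa [conjN, θK] using h
  obtain ⟨ψ, hψ⟩ := exists_over' (K := K) hθK
  have hres : (fun k : K => (ψ : X → ℂ) k) = θK := by
    have h := clifford K ψ.2 hθK hψ
    rw [OverCyclic.mult_one hcycK hθK ψ.2 hψ] at h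
    have horb : conjOrbit K θK = {θK} := by
      ext φ
      rw [mem_conjOrbit, Finset.mem_singleton]
      refine ⟨?_, fun he => ⟨1, he ▸ conjN_one K θK⟩⟩
      rintro ⟨g, rfl⟩
      exact (mem_inertia K).1 (hinvK ▸ Subgroup.mem_top g)
    rw [horb, Finset.sum_singleton, one_smul] at h
    exact h
  set β : X → ℂ := fun x => if ((x : T) : T ⧸ C) = z then (ψ : X → ℂ) x else 0
  have hcomm : ∀ x : X, ((x : T) : T ⧸ C) * z = z * ((x : T) : T ⧸ C) := fun x =>
    Subgroup.mem_centralizer_singleton_iff.1 x.2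
  refine ⟨indFun X β, ?_, fun h hh => ?_, ?_⟩
  · rw [classFunction_expansion (indFun_classFun X β)]
    refine Submodule.sum_mem _ fun χ _ => ?_
    by_cases hχ : χ ∈ lying C θ
    · exact Submodule.smul_mem _ _ (Submodule.subset_span ⟨χ, hχ, rfl⟩)
    suffices h0 : classInner β (fun x : X => (χ : T → ℂ) x) = 0 by
      rw [classInner_indFun X β (IsIrr.classFun χ.2), h0, zero_smul]
      exact Submodule.zero_mem _
    -- the indicator is a combination of characters of the quotient
    letI := Fintype.ofFinite (X ⧸ K)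
    let γ : X ⧸ K → ℂ := fun q => if QuotientGroup.map K C X.subtype (fun x hx => hx) q = z then 1 else 0
    have hγ : IsClassFunction (X ⧸ K) γ := by
      intro a b
      haveI := hcycK
      rw [(IsCyclic.commutative (α := X ⧸ K)).is_comm.comm b a, mul_inv_cancel_right]
    have hβ : β = ∑ ω : IrrCharacter (X ⧸ K),
        classInner γ (ω : X ⧸ K → ℂ) • fun x : X => (ψ : X → ℂ) x * (ω : X ⧸ K → ℂ) x := by
      funext x
      have hg := congrFun (classFunction_expansion hγ) (x : X ⧸ K)
      simp only [Finset.sum_apply, Pi.smul_apply, smul_eq_mul] at hg ⊢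
      rw [show β x = (ψ : X → ℂ) x * γ (x : X ⧸ K) by
        simp only [β, γ, mul_ite, mul_one, mul_zero]
        rfl, hg, Finset.mul_sum]
      exact Finset.sum_congr rfl fun ω _ => by ring
    rw [hβ, classInner_sum_left]
    refine Finset.sum_eq_zero fun ω _ => ?_
    rw [classInner_smul_left]
    refine mul_eq_zero_of_right _ ?_
    set F : X → ℂ := fun x => (ψ : X → ℂ) x * (ω : X ⧸ K → ℂ) x
    have hF : IsCharacter X F :=
      IsChar.mul (IsIrr.isCharacter ψ.2) (IsChar.comp (QuotientGroup.mk' K) (IsIrr.isCharacter ω.2))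
    have hFK : (fun k : K => F k) = fun k => (ω : X ⧸ K → ℂ) 1 * θK k := by
      funext k
      show (ψ : X → ℂ) k * (ω : X ⧸ K → ℂ) ((k : X) : X ⧸ K) = _
      rw [congrFun hres k, (QuotientGroup.eq_one_iff (k : X)).2 k.2, mul_comm]
    by_contra hne
    obtain ⟨a, ha, hdec⟩ := IsChar.exists_decomp_inner hF
    obtain ⟨b, hb, hdecχ⟩ := IsChar.exists_decomp_inner (IsChar.res (IsIrr.isCharacter χ.2) X)
    rw [hdec, classInner_sum_left] at hne
    obtain ⟨η, -, hη⟩ := Finset.exists_ne_zero_of_sum_ne_zero hne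
    rw [classInner_smul_left, mul_ne_zero_iff] at hη
    -- the constituent lies over another character
    obtain ⟨θ', hθ'⟩ := IsChar.exists_constituent' (IsChar.res (IsIrr.isCharacter η.2) K)
      (show (η : X → ℂ) ((1 : K) : X) ≠ 0 from IsIrr.one_ne_zero η.2)
    have hpos : ∀ (c : IrrCharacter X → ℕ) (f : X → ℂ),
        f = ∑ φ : IrrCharacter X, (c φ : ℂ) • (φ : X → ℂ) → c η ≠ 0 →
        classInner (fun k : K => f k) (θ' : K → ℂ) ≠ 0 := by
      intro c f hf hc
      have hn : ∀ φ : IrrCharacter X, ∃ m : ℕ,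
          classInner (fun k : K => (φ : X → ℂ) k) (θ' : K → ℂ) = m := fun φ =>
        IsChar.classInner_nat (IsChar.res (IsIrr.isCharacter φ.2) K) (IsIrr.isCharacter θ'.2)
      choose m hm using hn
      have h1 : (fun k : K => f k) =
          ∑ φ : IrrCharacter X, (c φ : ℂ) • fun k : K => (φ : X → ℂ) k := by
        funext k
        rw [hf]
        simp
      rw [h1, classInner_sum_left, Finset.sum_congr rfl fun φ _ => by
        rw [classInner_smul_left, hm, ← Nat.cast_mul], ← Nat.cast_sum, Nat.cast_ne_zero]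
      intro h0
      have h2 := (Finset.sum_eq_zero_iff.1 h0) η (Finset.mem_univ _)
      rcases Nat.mul_eq_zero.1 h2 with h3 | h3
      · exact hc h3
      · exact hθ' (by rw [hm, h3, Nat.cast_zero])
    have haη : a η ≠ 0 := fun h => hη.1 (by rw [h, Nat.cast_zero])
    have h1 := hpos a F hdec haη
    rw [hFK, show (fun k : K => (ω : X ⧸ K → ℂ) 1 * θK k) = (ω : X ⧸ K → ℂ) 1 • θK from rfl,
      classInner_smul_left, mul_ne_zero_iff, classInner_irr_eq_ite hθK θ'.2] at h1
    have heq : θK = (θ' : K → ℂ) := by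
      by_contra he
      exact h1.2 (if_neg he)
    have hbη : b η ≠ 0 := by
      intro h
      have h2 := hη.2
      rw [← classInner_conj_symm, hb, h, Nat.cast_zero, map_zero] at h2
      exact h2 rfl
    have h2 := hpos b (fun x : X => (χ : T → ℂ) x) hdecχ hbη
    rw [← heq] at h2
    refine hχ (mem_lying.2 ?_)
    rwa [← Corr.classInner_subgroupOf C hCX (fun c : C => (χ : T → ℂ) c) θ]
  · refine indFun_eq_zero_of_not_conj X β fun t ht => ?_
    simp only [β]
    refine if_neg fun he => hh (isConj_iff.2 ⟨(t : T ⧸ C)⁻¹, ?_⟩)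
    rw [inv_inv, ← he]
    rfl
  · -- the coset average of the squared extension is a linear character
    have hne : classInner (fun k : K => (ψ : X → ℂ) k) (fun k : K => (ψ : X → ℂ) k) ≠ 0 := by
      rw [hres, classInner_self_irr hθK]; exact one_ne_zero
    obtain ⟨hζ, heq⟩ := gallagher K ψ.2 ψ.2 (hres ▸ hθK) hne
    set ζ := avgN K ((ψ : X → ℂ) * fun g => conj ((ψ : X → ℂ) g)) with hζdef
    have hζ1 : ζ 1 = 1 := by
      have h := congrFun heq 1
      rw [Pi.mul_apply] at h
      exact mul_left_cancel₀ (IsIrr.one_ne_zero ψ.2) (h.trans (mul_one _).symm)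
    obtain ⟨l, hl⟩ := linearHom_of_isCharacter (IsIrr.isCharacter hζ) hζ1
    obtain ⟨h₀, hh₀⟩ := QuotientGroup.mk_surjective z
    have hh₀X : h₀ ∈ X := by
      show (h₀ : T ⧸ C) ∈ Subgroup.centralizer ({z} : Set (T ⧸ C))
      rw [hh₀]
      exact Subgroup.mem_centralizer_singleton_iff.2 rfl
    have hζx : ζ ⟨h₀, hh₀X⟩ ≠ 0 := by
      rw [congrFun hl ⟨h₀, hh₀X⟩]
      exact Units.ne_zero _
    obtain ⟨k, hk⟩ : ∃ k : K, (ψ : X → ℂ) ((k : X) * ⟨h₀, hh₀X⟩) ≠ 0 := by
      by_contra hall
      push Not at hall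
      refine hζx ?_
      simp [hζdef, avgN, hall]
    set y : X := (k : X) * ⟨h₀, hh₀X⟩ with hy
    have hyz : ((y : T) : T ⧸ C) = z := by
      rw [hy]
      show ((((k : X) : T) * h₀ : T) : T ⧸ C) = z
      rw [QuotientGroup.mk_mul, (QuotientGroup.eq_one_iff ((k : X) : T)).2 (show ((k : X) : T) ∈ C from k.2), one_mul, hh₀]
    refine ⟨y, hyz, ?_⟩
    have hval : indFun X β (y : T) = (ψ : X → ℂ) y := by
      have hterm : ∀ t : T, extendByZero X β (t⁻¹ * (y : T) * t) =
          if t ∈ X then (ψ : X → ℂ) y else 0 := by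
        intro t
        by_cases ht : t ∈ X
        · rw [if_pos ht]
          have hm : t⁻¹ * (y : T) * t ∈ X := mul_mem (mul_mem (inv_mem ht) y.2) ht
          rw [extendByZero_of_mem _ hm]
          simp only [β]
          rw [if_pos]
          · have h := IsIrr.classFun ψ.2 y ⟨t, ht⟩⁻¹
            rw [← h]
            refine congrArg (ψ : X → ℂ) (Subtype.ext ?_)
            simp
          · rw [QuotientGroup.mk_mul, QuotientGroup.mk_mul, QuotientGroup.mk_inv, hyz, mul_assoc,
              ← hcomm ⟨t, ht⟩, inv_mul_cancel_left]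
        · rw [if_neg ht]
          by_cases hm : t⁻¹ * (y : T) * t ∈ X
          · rw [extendByZero_of_mem _ hm]
            simp only [β]
            refine if_neg fun he => ht ?_
            show (t : T ⧸ C) ∈ Subgroup.centralizer ({z} : Set (T ⧸ C))
            rw [QuotientGroup.mk_mul, QuotientGroup.mk_mul, QuotientGroup.mk_inv, hyz,
              mul_assoc, inv_mul_eq_iff_eq_mul] at he
            exact Subgroup.mem_centralizer_singleton_iff.2 he.symm
          · exact extendByZero_not_mem _ hm
      rw [indFun, Finset.sum_congr rfl fun t _ => hterm t, ← Finset.sum_filter, Finset.sum_const,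
        nsmul_eq_mul, ← mul_assoc]
      have hcard : (Finset.univ.filter (· ∈ X)).card = Nat.card X := by
        rw [Nat.card_eq_fintype_card, Fintype.card_subtype]
      rw [hcard, inv_mul_cancel₀ (Nat.cast_ne_zero.2 Nat.card_pos.ne'), one_mul]
    rw [hval]
    exact hk
where
  exists_over' {X : Type u} [Group X] [Fintype X] {K : Subgroup X} [K.Normal] [Fintype K]
      {θ : K → ℂ} (hθ : IsIrrCharacter K θ) :
      ∃ ψ : IrrCharacter X, classInner (fun k : K => (ψ : X → ℂ) k) θ ≠ 0 := by
    obtain ⟨ψ, hψ⟩ := IsChar.exists_constituent' (isCharacter_indFun K (IsIrr.isCharacter hθ))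
      (by
        rw [indFun_one_eq]
        exact mul_ne_zero (Nat.cast_ne_zero.mpr Subgroup.index_ne_zero_of_finite)
          (IsIrr.one_ne_zero hθ))
    refine ⟨ψ, ?_⟩
    rwa [classInner_indFun K θ (IsIrr.classFun ψ.2), ← classInner_conj_symm, Ne, map_eq_zero] at hψ

/-- With at most two characters over an invariant character the elements with cyclic centraliser
form one class. -/
theorem good_conj {θ : C → ℂ} (hθ : IsIrrCharacter C θ) (hinv : inertia C θ = ⊤)
    (htwo : (lying C θ).card ≤ 2) {x y : T ⧸ C} (hx : x ≠ 1) (hy : y ≠ 1)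
    (hcx : IsCyclic (Subgroup.centralizer ({x} : Set (T ⧸ C))))
    (hcy : IsCyclic (Subgroup.centralizer ({y} : Set (T ⧸ C)))) : IsConj x y := by
  classical
  by_contra hxy
  obtain ⟨f, hf, hfs, a, ha, hfa⟩ := exists_good hθ hinv hcx
  obtain ⟨f', hf', hfs', b, hb, hfb⟩ := exists_good hθ hinv hcy
  set f₀ := indFun C θ with hf₀
  have h0mem : f₀ ∈ Submodule.span ℂ
      ((fun χ : IrrCharacter T => (χ : T → ℂ)) '' (lying C θ : Set (IrrCharacter T))) := by
    rw [hf₀, classFunction_expansion (indFun_classFun C θ)]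
    refine Submodule.sum_mem _ fun χ _ => ?_
    by_cases hχ : χ ∈ lying C θ
    · exact Submodule.smul_mem _ _ (Submodule.subset_span ⟨χ, hχ, rfl⟩)
    · rw [classInner_indFun C θ (IsIrr.classFun χ.2), ← classInner_conj_symm,
        not_not.1 (fun h => hχ (mem_lying.2 h)), map_zero, zero_smul]
      exact Submodule.zero_mem _
  have hout : ∀ h : T, (h : T ⧸ C) ≠ 1 → f₀ h = 0 := fun h hh =>
    indFun_eq_zero_of_not_conj C θ fun t ht => absurd (by
      have := hC.conj_mem _ ht t
      simpa [mul_assoc] using this : h ∈ C) fun hm => hh ((QuotientGroup.eq_one_iff h).2 hm)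
  have hone : f₀ 1 ≠ 0 := by
    rw [hf₀, indFun_one_eq]
    exact mul_ne_zero (Nat.cast_ne_zero.mpr Subgroup.index_ne_zero_of_finite) (IsIrr.one_ne_zero hθ)
  have hnc : ∀ {u w : T ⧸ C}, u ≠ 1 → ¬ IsConj (1 : T ⧸ C) u := fun hu h =>
    hu (isConj_one_right.1 h)
  have hfun : LinearIndependent ℂ ![f₀, f, f'] := by
    rw [Fintype.linearIndependent_iff]
    intro g hg
    have h1 := congrFun hg 1
    have h2 := congrFun hg a
    have h3 := congrFun hg b
    simp only [Fin.sum_univ_three, Matrix.cons_val_zero, Matrix.cons_val_one, Matrix.cons_val,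
      Pi.add_apply, Pi.smul_apply, smul_eq_mul, Pi.zero_apply] at h1 h2 h3
    rw [hfs 1 (by rw [QuotientGroup.mk_one]; exact hnc (w := x) hx),
      hfs' 1 (by rw [QuotientGroup.mk_one]; exact hnc (w := y) hy), mul_zero, mul_zero, add_zero,
      add_zero] at h1
    rw [hout a (ha ▸ hx), hfs' a (ha ▸ hxy), mul_zero, mul_zero, zero_add, add_zero] at h2
    rw [hout b (hb ▸ hy), hfs b (fun h => hxy (hb ▸ h).symm), mul_zero, mul_zero, zero_add,
      zero_add] at h3
    intro i
    fin_cases i
    · exact (mul_eq_zero.1 h1).resolve_right hone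
    · exact (mul_eq_zero.1 h2).resolve_right hfa
    · exact (mul_eq_zero.1 h3).resolve_right hfb
  have hle : Submodule.span ℂ (Set.range ![f₀, f, f']) ≤ Submodule.span ℂ
      (((lying C θ).image fun χ : IrrCharacter T => (χ : T → ℂ)) : Set (T → ℂ)) := by
    rw [Submodule.span_le, Finset.coe_image]
    rintro _ ⟨i, rfl⟩
    fin_cases i
    exacts [h0mem, hf, hf']
  have h3 := Submodule.finrank_mono hle
  rw [finrank_span_eq_card hfun, Fintype.card_fin] at h3
  have h4 := h3.trans ((finrank_span_finset_le_card _).trans Finset.card_image_le)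
  omega

end Cfsg.Agent.Transfer.KThree
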