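import Cfsg.Agent.Lib.Transfer.KThree.Action
import Cfsg.Agent.Lib.Recog.Zsigmondy
import Mathlib.NumberTheory.SumTwoSquares

/-!
Transitive linear groups with square point stabilisers, order a sum of two squares and only one
class of elements with cyclic centraliser: the module has two or three elements.
-/

set_option autoImplicit false

namespace Cfsg.Agent.Transfer.KThree

open Cfsg.Agent.Recog

/-- Square factors do not matter for sums of two squares. -/
theorem even_padic {A f : ℕ} (hA : A ≠ 0) (hf : f ≠ 0)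
    (h : ∃ a b : ℕ, A * (f * f) = a ^ 2 + b ^ 2) :
    ∀ r : ℕ, r.Prime → r % 4 = 3 → Even (padicValNat r A) := by
  intro r hr h3
  haveI := Fact.mk hr
  by_cases hd : r ∣ A * (f * f)
  · have h1 := Nat.eq_sq_add_sq_iff.1 h r
      (Nat.mem_primeFactors.2 ⟨hr, hd, mul_ne_zero hA (mul_ne_zero hf hf)⟩) h3
    rw [padicValNat.mul hA (mul_ne_zero hf hf), padicValNat.mul hf hf] at h1
    have h2 : Even (padicValNat r f + padicValNat r f) := ⟨_, rfl⟩
    exact (Nat.even_add.1 h1).2 h2
  · rw [padicValNat.eq_zero_of_not_dvd fun hA' => hd (hA'.mul_right _)]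
    exact Even.zero

theorem sum_squares_of_even {A : ℕ} (h : ∀ r : ℕ, r.Prime → r % 4 = 3 → Even (padicValNat r A)) :
    A % 4 ≠ 3 := by
  obtain ⟨x, y, hxy⟩ :=
    Nat.eq_sq_add_sq_iff.2 (fun r hr => h r (Nat.prime_of_mem_primeFactors hr))
  intro h3
  have key : ∀ a b : ZMod 4, a ^ 2 + b ^ 2 ≠ 3 := by decide
  refine key x y ?_
  have h4 : ((A : ℕ) : ZMod 4) = 3 := by
    rw [← ZMod.natCast_mod A 4, h3]
    rfl
  rw [← h4, hxy]
  push_cast
  rfl

variable {E V : Type*} [Group E] [Finite E] [CommGroup V] [Finite V] [MulDistribMulAction E V]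
  [FaithfulSMul E V] {p n : ℕ}

theorem smul_ne_one' {E V : Type*} [Group E] [CommGroup V] [MulDistribMulAction E V] {e : E}
    {v : V} (hv : v ≠ 1) : e • v ≠ 1 := fun h =>
  hv (smul_left_cancel e (h.trans (smul_one e).symm))

/-- The hypotheses. -/
structure Data (E V : Type*) [Group E] [CommGroup V] [MulDistribMulAction E V] (p n : ℕ) : Prop where
  prime : p.Prime
  pos : 0 < n
  card : Nat.card V = p ^ n
  exp : ∀ v : V, v ^ p = 1
  trans : ∀ v w : V, v ≠ 1 → w ≠ 1 → ∃ e : E, e • v = w
  square : ∀ v : V, v ≠ 1 → IsSquare (Nat.card (MulAction.stabilizer E v))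
  squares : ∃ a b : ℕ, Nat.card E = a ^ 2 + b ^ 2
  good : ∀ x y : E, x ≠ 1 → y ≠ 1 → IsCyclic (Subgroup.centralizer ({x} : Set E)) →
    IsCyclic (Subgroup.centralizer ({y} : Set E)) → IsConj x y

theorem Data.nontrivial (d : Data E V p n) : Nontrivial V := by
  rw [← Finite.one_lt_card_iff_nontrivial, d.card]
  exact Nat.one_lt_pow d.pos.ne' d.prime.one_lt

theorem Data.orbit_eq (d : Data E V p n) {v : V} (hv : v ≠ 1) :
    MulAction.orbit E v = {w | w ≠ 1} := by
  ext w
  refine ⟨?_, fun hw => d.trans v w hv hw⟩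
  rintro ⟨e, rfl⟩
  exact smul_ne_one' hv

theorem Data.order (d : Data E V p n) {v : V} (hv : v ≠ 1) :
    Nat.card E = (p ^ n - 1) * Nat.card (MulAction.stabilizer E v) := by
  classical
  cases nonempty_fintype V
  rw [← (MulAction.stabilizer E v).card_mul_index, MulAction.index_stabilizer, d.orbit_eq hv,
    mul_comm]
  congr 1
  rw [← Nat.card_coe_set_eq, Nat.card_eq_fintype_card, ← d.card, Nat.card_eq_fintype_card]
  exact Fintype.card_subtype_compl _

theorem Data.exists_order (d : Data E V p n) :
    ∃ f : ℕ, f ≠ 0 ∧ Nat.card E = (p ^ n - 1) * (f * f) ∧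
      ∀ v : V, v ≠ 1 → Nat.card (MulAction.stabilizer E v) = f * f := by
  haveI := d.nontrivial
  obtain ⟨v, hv⟩ := exists_ne (1 : V)
  obtain ⟨f, hf⟩ := d.square v hv
  refine ⟨f, fun h => ?_, hf ▸ d.order hv, fun w hw => ?_⟩
  · rw [h, mul_zero] at hf
    exact Nat.card_pos.ne' hf
  · have h1 := d.order hv
    have h2 := d.order hw
    rw [h1, hf] at h2
    exact (Nat.eq_of_mul_eq_mul_left (Nat.sub_pos_of_lt (Nat.one_lt_pow d.pos.ne' d.prime.one_lt))
      h2).symm

theorem Data.even_val (d : Data E V p n) :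
    ∀ r : ℕ, r.Prime → r % 4 = 3 → Even (padicValNat r (p ^ n - 1)) := by
  obtain ⟨f, hf, hE, -⟩ := d.exists_order
  exact even_padic (Nat.sub_pos_of_lt (Nat.one_lt_pow d.pos.ne' d.prime.one_lt)).ne' hf
    (hE ▸ d.squares)

/-- The consequences of a primitive prime divisor. -/
theorem Data.primitive (d : Data E V p n) (hn : 2 ≤ n) {r : ℕ}
    (hr : Zsigmondy.Primitive p n r) :
    r = n + 1 ∧ ¬ r ^ 2 ∣ p ^ n - 1 ∧ r % 4 = 1 ∧
      ∀ x : E, orderOf x = r → Nat.card (Subgroup.centralizer ({x} : Set E)) = r := by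
  classical
  obtain ⟨hrp, hdvd, hprim⟩ := hr
  haveI := Fact.mk hrp
  haveI := Fact.mk d.prime
  haveI := d.nontrivial
  obtain ⟨f, hf, hE, -⟩ := d.exists_order
  have hrdp : ¬ r ∣ p := by
    intro h
    have h1 : r ∣ p ^ n := dvd_pow h d.pos.ne'
    have h2 := Nat.dvd_sub h1 hdvd
    rw [Nat.sub_sub_self (Nat.one_le_pow _ _ d.prime.pos)] at h2
    exact hrp.one_lt.ne' (Nat.dvd_one.1 h2)
  have hirr : ∀ x : E, orderOf x = r →
      ∀ W : Subgroup V, (∀ v ∈ W, x • v ∈ W) → W = ⊥ ∨ W = ⊤ := fun x hx =>
    irreducible d.prime d.card hrp hrdp hprim (hx ▸ pow_orderOf_eq_one x)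
      (fun h => hrp.one_lt.ne' (by rw [← hx, h, orderOf_one]))
  have hcen : ∀ x : E, orderOf x = r → Nat.card (Subgroup.centralizer ({x} : Set E)) = r := by
    intro x hx
    have hx1 : x ≠ 1 := fun h => hrp.one_lt.ne' (by rw [← hx, h, orderOf_one])
    have hcyc := (cyclic_and_frobenius d.prime d.card d.exp (hirr x hx)).1
    haveI := hcyc
    obtain ⟨s, hs⟩ := IsCyclic.exists_generator (α := Subgroup.centralizer ({x} : Set E))
    have hxm : x ∈ Subgroup.centralizer ({x} : Set E) :=
      Subgroup.mem_centralizer_singleton_iff.2 rfl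
    have hs1 : (s : E) ≠ 1 := fun h => hx1 (by
      obtain ⟨k, hk⟩ := Subgroup.mem_zpowers_iff.1 (hs ⟨x, hxm⟩)
      have h1 := congrArg Subtype.val hk
      rw [Subgroup.coe_zpow, h, one_zpow] at h1
      exact h1.symm)
    have hle : Subgroup.centralizer ({(s : E)} : Set E) ≤ Subgroup.centralizer ({x} : Set E) := by
      intro y hy
      obtain ⟨k, hk⟩ := Subgroup.mem_zpowers_iff.1 (hs ⟨x, hxm⟩)
      rw [Subgroup.mem_centralizer_singleton_iff, show x = (s : E) ^ k by
        rw [← Subgroup.coe_zpow, hk]]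
      exact Commute.zpow_right (Subgroup.mem_centralizer_singleton_iff.1 hy) k
    have hcs : IsCyclic (Subgroup.centralizer ({(s : E)} : Set E)) :=
      isCyclic_of_injective (Subgroup.inclusion hle) (Subgroup.inclusion_injective hle)
    obtain ⟨t, ht⟩ := isConj_iff.1 (d.good x s hx1 hs1 hcyc hcs)
    have hord : orderOf (s : E) = r := by
      rw [← ht, ← hx]
      exact MulEquiv.orderOf_eq (MulAut.conj t) x
    rw [← hord, Subgroup.orderOf_coe, orderOf_eq_card_of_forall_mem_zpowers hs]
  have hnot : ¬ r ^ 2 ∣ p ^ n - 1 := by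
    intro h2
    obtain ⟨R, hR⟩ := Sylow.exists_subgroup_card_pow_prime r (G := E) (n := 2)
      (hE ▸ h2.mul_right _)
    obtain ⟨x, hx⟩ := exists_prime_orderOf_dvd_card' (G := R) r (hR ▸ dvd_pow_self r two_ne_zero)
    have hle : R ≤ Subgroup.centralizer ({(x : E)} : Set E) := fun y hy =>
      Subgroup.mem_centralizer_singleton_iff.2
        (congrArg Subtype.val ((IsPGroup.commGroupOfCardEqPrimeSq hR).mul_comm ⟨y, hy⟩ x))
    have h1 := Subgroup.card_le_of_le hle
    rw [hR, hcen _ (by rw [Subgroup.orderOf_coe, hx])] at h1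
    have := hrp.one_lt
    nlinarith
  have hge : n + 1 ≤ r := by
    by_contra hlt
    push Not at hlt
    refine hprim (r - 1) (by have := hrp.two_le; omega) (by have := hrp.two_le; omega) ?_
    have h1 : ((p : ZMod r)) ≠ 0 := fun h => hrdp ((ZMod.natCast_eq_zero_iff _ _).1 h)
    have h2 : ((p ^ (r - 1) : ℕ) : ZMod r) = ((1 : ℕ) : ZMod r) := by
      push_cast
      exact ZMod.pow_card_sub_one_eq_one h1
    exact (Nat.modEq_iff_dvd' (Nat.one_le_pow _ _ d.prime.pos)).1
      ((ZMod.natCast_eq_natCast_iff' _ _ _).1 h2).symm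
  obtain ⟨g, hg⟩ := exists_prime_orderOf_dvd_card' (G := E) r (hE ▸ hdvd.mul_right _)
  have hle : r - 1 ≤ n := by
    have hfun : ∀ j : Fin (r - 1), ∃ i : Fin n, g ^ (j.1 + 1) = g ^ p ^ i.1 := fun j => by
      have hjr : j.1 + 1 < r := by have := j.2; omega
      have hcop : (orderOf g).Coprime (j.1 + 1) := by
        rw [hg]
        exact hrp.coprime_iff_not_dvd.2 fun h => by have := Nat.le_of_dvd (by omega) h; omega
      have ho : orderOf (g ^ (j.1 + 1)) = r := by rw [hcop.orderOf_pow, hg]
      obtain ⟨i, hi, he⟩ := (cyclic_and_frobenius d.prime d.card d.exp (hirr g hg)).2 _ hcop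
        (d.good g _ (fun h => hrp.one_lt.ne' (by rw [← hg, h, orderOf_one]))
          (fun h => hrp.one_lt.ne' (by rw [← ho, h, orderOf_one]))
          (cyclic_and_frobenius d.prime d.card d.exp (hirr g hg)).1
          (cyclic_and_frobenius d.prime d.card d.exp (hirr _ ho)).1)
      exact ⟨⟨i, hi⟩, he⟩
    choose F hF using hfun
    have hinj : Function.Injective F := fun a b h => by
      have h1 : g ^ (a.1 + 1) = g ^ (b.1 + 1) := by rw [hF, hF, h]
      rw [pow_eq_pow_iff_modEq, hg, Nat.ModEq,
        Nat.mod_eq_of_lt (by have := a.2; omega), Nat.mod_eq_of_lt (by have := b.2; omega)] at h1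
      exact Fin.ext (by omega)
    simpa using Fintype.card_le_of_injective F hinj
  have hrn : r = n + 1 := by omega
  refine ⟨hrn, hnot, ?_, hcen⟩
  have hodd : r % 2 = 1 := Nat.odd_iff.1 (hrp.odd_of_ne_two (by omega))
  by_contra h1
  have h3 := d.even_val r hrp (by omega)
  have hA : p ^ n - 1 ≠ 0 := (Nat.sub_pos_of_lt (Nat.one_lt_pow d.pos.ne' d.prime.one_lt)).ne'
  have h4 : padicValNat r (p ^ n - 1) = 1 := by
    have h5 : 1 ≤ padicValNat r (p ^ n - 1) := one_le_padicValNat_of_dvd hA hdvd
    by_contra h6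
    exact hnot ((pow_dvd_pow r (by omega : 2 ≤ padicValNat r (p ^ n - 1))).trans pow_padicValNat_dvd)
  rw [h4] at h3
  exact Nat.not_even_one h3

/-- The module has rank one only over the field with three elements. -/
theorem Data.rank_one (d : Data E V p 1) : p = 2 ∨ p = 3 := by
  classical
  obtain ⟨f, hf, hE, -⟩ := d.exists_order
  haveI : Fact (Nat.card V).Prime := ⟨by rw [d.card, pow_one]; exact d.prime⟩
  haveI : IsCyclic V := isCyclic_of_prime_card rfl
  let ψ : E →* (ZMod (Nat.card V))ˣ :=
    ((IsCyclic.mulAutMulEquiv V).toMonoidHom).comp (MulDistribMulAction.toMulAut E V)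
  have hψ : Function.Injective ψ := (IsCyclic.mulAutMulEquiv V).injective.comp fun a b h =>
    eq_of_smul_eq_smul fun v : V => DFunLike.congr_fun h v
  haveI : IsCyclic E := isCyclic_of_injective ψ hψ
  have hle : Nat.card E ≤ 2 := by
    by_contra hlt
    push Not at hlt
    cases nonempty_fintype E
    rw [Nat.card_eq_fintype_card] at hlt
    obtain ⟨x, y, z, hxy, hxz, hyz⟩ := Fintype.two_lt_card_iff.1 hlt
    have key : ∀ a b : E, a ≠ 1 → b ≠ 1 → a = b := fun a b ha hb => by
      obtain ⟨t, ht⟩ := isConj_iff.1 (d.good a b ha hb inferInstance inferInstance)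
      rw [← ht, (IsCyclic.commutative (α := E)).is_comm.comm t a, mul_inv_cancel_right]
    by_cases hx : x = 1
    · exact hyz (key y z (fun h => hxy (hx.trans h.symm)) fun h => hxz (hx.trans h.symm))
    · by_cases hy : y = 1
      · exact hxz (key x z hx fun h => hyz (hy.trans h.symm))
      · exact hxy (key x y hx hy)
  have hf1 : 1 ≤ f * f := Nat.one_le_iff_ne_zero.2 (mul_ne_zero hf hf)
  rw [hE, pow_one] at hle
  have h1 : (p - 1) * 1 ≤ 2 := (Nat.mul_le_mul_left _ hf1).trans hle
  have := d.prime.two_le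
  omega

/-- Every orbit of a Sylow two-subgroup is long when the stabilisers are squares. -/
theorem Data.not_three_four (d : Data E V 3 4) : False := by
  classical
  haveI : Fact (Nat.Prime 2) := ⟨Nat.prime_two⟩
  haveI := d.nontrivial
  obtain ⟨f, hf, hE, hstab⟩ := d.exists_order
  have hp5 : Zsigmondy.Primitive 3 4 5 := ⟨by norm_num, by norm_num, fun i h1 h2 => by
    interval_cases i <;> norm_num⟩
  obtain ⟨-, -, -, hcen⟩ := d.primitive (by norm_num) hp5
  let P : Sylow 2 E := default
  set φ := f.factorization 2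
  have hP : Nat.card (P : Subgroup E) = 16 * 2 ^ (2 * φ) := by
    rw [P.card_eq_multiplicity, hE, Nat.factorization_mul (by norm_num) (mul_ne_zero hf hf),
      Finsupp.add_apply, Nat.factorization_mul hf hf, Finsupp.add_apply, pow_add, ← two_mul]
    congr 1
    rw [show (3 : ℕ) ^ 4 - 1 = 2 ^ 4 * 5 by norm_num, Nat.factorization_mul (by norm_num) (by norm_num),
      Finsupp.add_apply, Nat.prime_two.factorization_pow, Finsupp.single_eq_same,
      Nat.factorization_eq_zero_of_not_dvd (by norm_num)]
    norm_num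
  haveI : Nontrivial (P : Subgroup E) := Finite.one_lt_card_iff_nontrivial.1 (by
    rw [hP]; have := Nat.one_le_two_pow (n := 2 * φ); omega)
  haveI := P.isPGroup'.center_nontrivial
  obtain ⟨z₀, hz₀⟩ := exists_prime_orderOf_dvd_card' (G := Subgroup.center (P : Subgroup E)) 2 (by
    obtain ⟨k, hk0, hk⟩ := IsPGroup.nontrivial_iff_card (G := Subgroup.center (P : Subgroup E))
      (P.isPGroup'.to_subgroup _) |>.1 inferInstance
    rw [hk]
    exact dvd_pow_self 2 hk0.ne')
  set z : E := ((z₀ : (P : Subgroup E)) : E) with hzdef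
  have hz : orderOf z = 2 := by rw [hzdef, Subgroup.orderOf_coe, Subgroup.orderOf_coe, hz₀]
  have hz1 : z ≠ 1 := fun h => by rw [h, orderOf_one] at hz; omega
  have hzc : ∀ a ∈ (P : Subgroup E), a * z = z * a := fun a ha =>
    congrArg Subtype.val (Subgroup.mem_center_iff.1 z₀.2 ⟨a, ha⟩)
  -- the orbits are long
  have hidx : ∀ v : V, v ≠ 1 → 16 ∣ (MulAction.stabilizer (P : Subgroup E) v).index := by
    intro v hv
    have h1 := (MulAction.stabilizer (P : Subgroup E) v).card_mul_index
    rw [hP] at h1
    have h2 : Nat.card (MulAction.stabilizer (P : Subgroup E) v) ∣ 2 ^ (2 * φ) := by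
      obtain ⟨k, -, hk⟩ := (Nat.dvd_prime_pow Nat.prime_two).1
        (show Nat.card (MulAction.stabilizer (P : Subgroup E) v) ∣ 2 ^ (4 + 2 * φ) from
          (Subgroup.card_subgroup_dvd_card _).trans (by rw [hP, pow_add]; norm_num))
      have h3 : Nat.card (MulAction.stabilizer (P : Subgroup E) v) ∣ f * f := by
        rw [← hstab v hv]
        exact Subgroup.card_dvd_of_injective
          (MonoidHom.mk' (fun a : MulAction.stabilizer (P : Subgroup E) v =>
            (⟨((a : (P : Subgroup E)) : E), a.2⟩ : MulAction.stabilizer E v)) fun _ _ => rfl)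
          fun a b h => Subtype.ext (Subtype.ext (congrArg (fun t : MulAction.stabilizer E v => (t : E)) h))
      rw [hk] at h3 ⊢
      refine pow_dvd_pow 2 ?_
      have := (Nat.Prime.pow_dvd_iff_le_factorization Nat.prime_two (mul_ne_zero hf hf)).1 h3
      rwa [Nat.factorization_mul hf hf, Finsupp.add_apply, ← two_mul] at this
    obtain ⟨c, hc⟩ := h2
    refine ⟨c, ?_⟩
    have hpos : 0 < Nat.card (MulAction.stabilizer (P : Subgroup E) v) := Nat.card_pos
    rw [hc] at h1
    refine Nat.eq_of_mul_eq_mul_left hpos ?_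
    rw [h1]
    ring
  -- the fixed points of `z` are trivial
  let S : SubMulAction (P : Subgroup E) V :=
    { carrier := {v | v ∈ (fix z : Subgroup V) ∧ v ≠ 1}
      smul_mem' := fun a v hv => ⟨by
        show z • (a : E) • v = (a : E) • v
        rw [← mul_smul, ← hzc _ a.2, mul_smul, show z • v = v from hv.1],
        smul_ne_one' hv.2⟩ }
  have hS : 16 ∣ Nat.card S := by
    cases nonempty_fintype (P : Subgroup E)
    letI := Fintype.ofFinite S
    rw [Nat.card_congr (MulAction.selfEquivSigmaOrbitsQuotientStabilizer (P : Subgroup E) S),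
      Nat.card_sigma]
    refine Finset.dvd_sum fun ω _ => ?_
    rw [← Subgroup.index_eq_card]
    have h1 := hidx (ω.out : V) ω.out.2.2
    rwa [SubMulAction.stabilizer_of_subMul]
  have hU : (fix z : Subgroup V) = ⊥ := by
    by_contra hne
    obtain ⟨k, -, hk⟩ := exists_card_eq d.prime d.card (fix z : Subgroup V)
    have hk4 : k < 4 := by
      by_contra h4
      push Not at h4
      have h1 := Subgroup.card_le_card_group (fix z : Subgroup V)
      rw [hk, d.card] at h1
      exact fix_ne_top (V := V) hz1 (Subgroup.eq_top_of_card_eq _ (by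
        rw [hk, d.card]
        exact le_antisymm h1 (Nat.pow_le_pow_right (by norm_num) h4)))
    have hk0 : k ≠ 0 := fun h => hne (Subgroup.card_eq_one.1 (by rw [hk, h, pow_zero]))
    have hSc : Nat.card S = 3 ^ k - 1 := by
      cases nonempty_fintype V
      let e : S ≃ {v : (fix z : Subgroup V) // ¬ v = 1} :=
        { toFun := fun v => ⟨⟨(v : V), v.2.1⟩, fun h => v.2.2 (congrArg Subtype.val h)⟩
          invFun := fun v => ⟨(v : V), v.1.2, fun h => v.2 (Subtype.ext h)⟩
          left_inv := fun v => rfl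
          right_inv := fun v => rfl }
      rw [Nat.card_congr e, Nat.card_eq_fintype_card, Fintype.card_subtype_compl,
        Fintype.card_subtype_eq, ← Nat.card_eq_fintype_card, hk]
    rw [hSc] at hS
    interval_cases k <;> omega
  have hinv : ∀ v : V, z • v = v⁻¹ := fun v => by
    have hzz : z * z = 1 := by rw [← pow_two, ← hz]; exact pow_orderOf_eq_one z
    have h1 : v * (z • v) ∈ (fix z : Subgroup V) := by
      rw [mem_fix, smul_mul', ← mul_smul, hzz, one_smul, mul_comm]
    rw [hU, Subgroup.mem_bot] at h1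
    exact eq_inv_of_mul_eq_one_right h1
  obtain ⟨g, hg⟩ := exists_prime_orderOf_dvd_card' (G := E) (hp := ⟨by norm_num⟩) 5
    (hE ▸ Dvd.dvd.mul_right (by norm_num) _)
  have hzg : z ∈ Subgroup.centralizer ({g} : Set E) :=
    Subgroup.mem_centralizer_singleton_iff.2 (eq_of_smul_eq_smul fun v : V => by
      rw [mul_smul, mul_smul, hinv, hinv, smul_inv'])
  have h5 := (Subgroup.centralizer ({g} : Set E)).orderOf_dvd_natCard hzg
  rw [hz, hcen g hg] at h5
  norm_num at h5

/-- The plane over three elements does not occur. -/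
theorem Data.not_three_two (d : Data E V 3 2) : False := by
  classical
  haveI := d.nontrivial
  obtain ⟨f, hf, hE, hstab⟩ := d.exists_order
  -- the stabilisers are trivial
  have hf1 : f * f = 1 := by
    obtain ⟨v, hv⟩ := exists_ne (1 : V)
    set L := Subgroup.zpowers v with hL
    set H := MulAction.stabilizer E v with hH
    have hHL : ∀ h ∈ H, ∀ u ∈ L, h • u = u := by
      intro h hh u hu
      obtain ⟨k, rfl⟩ := Subgroup.mem_zpowers_iff.1 hu
      rw [← MulDistribMulAction.toMonoidHom_apply, map_zpow, MulDistribMulAction.toMonoidHom_apply,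
        MulAction.mem_stabilizer_iff.1 hh]
    have hLc : Nat.card L = 3 := by
      rw [hL, Nat.card_zpowers]
      exact (Nat.prime_three.eq_one_or_self_of_dvd _ (orderOf_dvd_of_pow_eq_one (d.exp v))).resolve_left
        (fun h => hv (orderOf_eq_one_iff.1 h))
    let S : SubMulAction H V :=
      { carrier := {w | w ∉ L}
        smul_mem' := fun a w hw hm => hw (by
          have := hHL _ (inv_mem a.2) _ hm
          rw [show (a • w : V) = (a : E) • w from rfl, inv_smul_smul] at this
          rw [show w = (a : E) • w from this]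
          exact hm) }
    have hstab1 : ∀ w : S, MulAction.stabilizer H w = ⊥ := by
      intro w
      rw [eq_bot_iff]
      intro a ha
      rw [Subgroup.mem_bot]
      refine Subtype.ext (eq_of_smul_eq_smul fun u : V => ?_)
      rw [Subgroup.coe_one, one_smul]
      have hle : L < L ⊔ Subgroup.zpowers (w : V) := by
        refine lt_of_le_of_ne le_sup_left fun h => w.2 ?_
        rw [h]
        exact Subgroup.mem_sup_right (Subgroup.mem_zpowers _)
      have htop : L ⊔ Subgroup.zpowers (w : V) = ⊤ := by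
        obtain ⟨k, hk2, hk⟩ := exists_card_eq d.prime d.card (L ⊔ Subgroup.zpowers (w : V))
        refine Subgroup.eq_top_of_card_eq _ ?_
        have h1 : Nat.card L < Nat.card ↥(L ⊔ Subgroup.zpowers (w : V)) := by
          refine lt_of_le_of_ne (Subgroup.card_le_of_le hle.le) fun h => hle.ne
            (Subgroup.eq_of_le_of_card_ge hle.le h.ge)
        rw [hLc, hk] at h1
        rw [hk, d.card]
        interval_cases k <;> omega
      have hfix : (⊤ : Subgroup V) ≤ fix ((a : H) : E) := by
        rw [← htop]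
        refine sup_le (fun u hu => hHL _ a.2 u hu) (Subgroup.zpowers_le.2 ?_)
        exact congrArg Subtype.val (MulAction.mem_stabilizer_iff.1 ha)
      exact hfix (Subgroup.mem_top u)
    have hdiv : Nat.card H ∣ Nat.card S := by
      letI := Fintype.ofFinite S
      rw [Nat.card_congr (MulAction.selfEquivSigmaOrbitsQuotientStabilizer H S), Nat.card_sigma]
      refine Finset.dvd_sum fun ω _ => ?_
      rw [← Subgroup.index_eq_card, hstab1, Subgroup.index_bot]
    have hS6 : Nat.card S = 6 := by
      cases nonempty_fintype V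
      show Nat.card {w : V // w ∉ L} = 6
      rw [Nat.card_eq_fintype_card, Fintype.card_subtype_compl, ← Nat.card_eq_fintype_card,
        ← Nat.card_eq_fintype_card, d.card, hLc]
      norm_num
    rw [show Nat.card H = f * f from hstab v hv, hS6] at hdiv
    have hle6 := Nat.le_of_dvd (by norm_num) hdiv
    have : f ≤ 2 := by nlinarith
    interval_cases f <;> omega
  have hE8 : Nat.card E = 8 := by rw [hE, hf1]; norm_num
  have hfree : ∀ e : E, ∀ v : V, v ≠ 1 → e • v = v → e = 1 := fun e v hv h => by
    have h1 : MulAction.stabilizer E v = ⊥ := Subgroup.card_eq_one.1 (by rw [hstab v hv, hf1])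
    have h2 : e ∈ MulAction.stabilizer E v := h
    rwa [h1, Subgroup.mem_bot] at h2
  -- one involution
  have hinvo : ∀ z : E, z * z = 1 → z ≠ 1 → ∀ v : V, z • v = v⁻¹ := by
    intro z hzz hz1 v
    have h1 : z • (v * (z • v)) = v * (z • v) := by rw [smul_mul', ← mul_smul, hzz, one_smul, mul_comm]
    by_contra h2
    exact hz1 (hfree z _ (fun h => h2 (eq_inv_of_mul_eq_one_right h)) h1)
  have huniq : ∀ z z' : E, z * z = 1 → z ≠ 1 → z' * z' = 1 → z' ≠ 1 → z = z' :=
    fun z z' h1 h2 h3 h4 => eq_of_smul_eq_smul fun v : V => by rw [hinvo z h1 h2, hinvo z' h3 h4]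
  haveI : Fact (Nat.Prime 2) := ⟨Nat.prime_two⟩
  obtain ⟨z, hz⟩ := exists_prime_orderOf_dvd_card' (G := E) 2 (hE8 ▸ by norm_num)
  have hzz : z * z = 1 := by rw [← pow_two, ← hz]; exact pow_orderOf_eq_one z
  have hz1 : z ≠ 1 := fun h => by rw [h, orderOf_one] at hz; omega
  have hzc : ∀ a : E, a * z = z * a := fun a => eq_of_smul_eq_smul fun v : V => by
    rw [mul_smul, mul_smul, hinvo z hzz hz1, hinvo z hzz hz1, smul_inv']
  have hpow : ∀ a : E, a * a = 1 → a = 1 ∨ a = z := fun a ha => by
    by_cases h1 : a = 1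
    · exact Or.inl h1
    · exact Or.inr (huniq a z ha h1 hzz hz1)
  cases nonempty_fintype E
  rw [Nat.card_eq_fintype_card] at hE8
  by_cases hc : ∀ a b : E, a * b = b * a
  · -- an abelian group is cyclic
    have hcyc : IsCyclic E := by
      letI : CommGroup E := { (inferInstance : Group E) with mul_comm := hc }
      refine isCyclic_of_card_pow_eq_one_le fun k hk => ?_
      have h8 : ∀ a : E, a ^ 8 = 1 := fun a => hE8 ▸ pow_card_eq_one
      have hgcd : ∀ a : E, a ^ k = 1 → a ^ Nat.gcd k 8 = 1 := fun a ha =>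
        pow_gcd_eq_one.2 ⟨ha, h8 a⟩
      obtain ⟨j, hj3, hj⟩ := (Nat.dvd_prime_pow Nat.prime_two).1
        (show Nat.gcd k 8 ∣ 2 ^ 3 from Nat.gcd_dvd_right k 8)
      have hb : ∀ i : ℕ, (Finset.univ.filter fun a : E => a ^ 2 ^ i = 1).card ≤ 2 ^ i := by
        intro i
        induction i with
        | zero =>
          refine (Finset.card_le_card (t := {(1 : E)}) fun a ha => ?_).trans (le_of_eq (Finset.card_singleton _))
          simpa using (Finset.mem_filter.1 ha).2
        | succ i ih =>
          refine le_trans (Finset.card_le_mul_card_image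
            (f := fun a : E => a * a) _ 2 fun b hb => ?_) ?_
          · obtain ⟨a₀, -, rfl⟩ := Finset.mem_image.1 hb
            refine (Finset.card_le_card (fun a ha => ?_)).trans (Finset.card_le_two (a := a₀) (b := a₀ * z))
            have h1 : (a₀⁻¹ * a) * (a₀⁻¹ * a) = 1 := by
              rw [mul_mul_mul_comm, (Finset.mem_filter.1 ha).2, ← mul_inv_rev, inv_mul_cancel]
            rcases hpow _ h1 with h | h
            · simp [inv_mul_eq_one.1 h]
            · simp [inv_mul_eq_iff_eq_mul.1 h]
          · rw [pow_succ']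
            refine Nat.mul_le_mul_left 2 (le_trans (Finset.card_le_card fun b hb => ?_) ih)
            obtain ⟨a, ha, rfl⟩ := Finset.mem_image.1 hb
            refine Finset.mem_filter.2 ⟨Finset.mem_univ _, ?_⟩
            rw [← pow_two, ← pow_mul]
            exact (Finset.mem_filter.1 ha).2
      refine le_trans (Finset.card_le_card fun a ha => ?_) ((hb j).trans (hj ▸ Nat.gcd_le_left 8 hk))
      exact Finset.mem_filter.2 ⟨Finset.mem_univ _, hj ▸ hgcd a (Finset.mem_filter.1 ha).2⟩
    obtain ⟨a, ha1, haz⟩ : ∃ a : E, a ≠ 1 ∧ a ≠ z := by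
      by_contra h
      push Not at h
      have h1 : Fintype.card E ≤ 2 := by
        rw [← Finset.card_univ]
        refine (Finset.card_le_card fun a _ => ?_).trans (Finset.card_le_two (a := (1 : E)) (b := z))
        by_cases h2 : a = 1
        · simp [h2]
        · simp [h a h2]
      omega
    obtain ⟨t, ht⟩ := isConj_iff.1 (d.good z a hz1 ha1 inferInstance inferInstance)
    rw [hc t z, mul_inv_cancel_right] at ht
    exact haz ht.symm
  · push Not at hc
    obtain ⟨a₀, b₀, hab⟩ := hc
    have hC : ∀ x : E, x ≠ 1 → x ≠ z → orderOf x = 4 ∧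
        Subgroup.centralizer ({x} : Set E) = Subgroup.zpowers x := by
      intro x hx1 hxz
      have hd : orderOf x ∣ 2 ^ 3 := orderOf_dvd_of_pow_eq_one (by
        rw [show (2 : ℕ) ^ 3 = Fintype.card E by rw [hE8]; norm_num]; exact pow_card_eq_one)
      obtain ⟨j, hj3, hj⟩ := (Nat.dvd_prime_pow Nat.prime_two).1 hd
      have hj2 : j = 2 := by
        interval_cases j
        · exact absurd (orderOf_eq_one_iff.1 (by simpa using hj)) hx1
        · exfalso
          have h1 := pow_orderOf_eq_one x
          rw [hj, pow_one, pow_two] at h1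
          rcases hpow x h1 with h | h <;> contradiction
        · rfl
        · exfalso
          have h1 : Subgroup.zpowers x = ⊤ := Subgroup.eq_top_of_card_eq _ (by
            rw [Nat.card_zpowers, hj, Nat.card_eq_fintype_card, hE8]; norm_num)
          obtain ⟨i, hi⟩ := Subgroup.mem_zpowers_iff.1 (h1 ▸ Subgroup.mem_top a₀)
          obtain ⟨i', hi'⟩ := Subgroup.mem_zpowers_iff.1 (h1 ▸ Subgroup.mem_top b₀)
          exact hab (by rw [← hi, ← hi']; exact zpow_mul_comm x i i')
      have h4 : orderOf x = 4 := by rw [hj, hj2]; norm_num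
      refine ⟨h4, (Subgroup.eq_of_le_of_card_ge (Subgroup.zpowers_le.2
        (Subgroup.mem_centralizer_singleton_iff.2 rfl)) ?_).symm⟩
      rw [Nat.card_zpowers, h4]
      by_contra hlt
      push Not at hlt
      have h8 : Nat.card (Subgroup.centralizer ({x} : Set E)) ∣ 2 ^ 3 :=
        (Subgroup.card_subgroup_dvd_card _).trans (by rw [Nat.card_eq_fintype_card, hE8]; norm_num)
      obtain ⟨i, hi3, hi⟩ := (Nat.dvd_prime_pow Nat.prime_two).1 h8
      have htop : Subgroup.centralizer ({x} : Set E) = ⊤ := Subgroup.eq_top_of_card_eq _ (by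
        rw [hi] at hlt
        rw [Nat.card_eq_fintype_card (α := E), hE8, hi]
        interval_cases i <;> omega)
      -- a central element of order four
      have hxc : ∀ e : E, x * e = e * x := fun e =>
        (Subgroup.mem_centralizer_singleton_iff.1 (htop ▸ Subgroup.mem_top e)).symm
      obtain ⟨y, hy⟩ : ∃ y : E, y ∉ Subgroup.zpowers x := by
        by_contra hall
        push Not at hall
        have h1 : Subgroup.zpowers x = ⊤ := eq_top_iff.2 fun y _ => hall y
        have h2 : Nat.card (Subgroup.zpowers x) = 8 := by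
          rw [h1, Subgroup.card_top, Nat.card_eq_fintype_card, hE8]
        rw [Nat.card_zpowers, h4] at h2
        omega
      have hsup : Subgroup.zpowers x ⊔ Subgroup.zpowers y = ⊤ := by
        refine Subgroup.eq_top_of_card_eq _ ?_
        have h1 : Subgroup.zpowers x < Subgroup.zpowers x ⊔ Subgroup.zpowers y :=
          lt_of_le_of_ne le_sup_left fun h => hy (h ▸ Subgroup.mem_sup_right (Subgroup.mem_zpowers y))
        have h2 : Nat.card (Subgroup.zpowers x) < Nat.card ↥(Subgroup.zpowers x ⊔ Subgroup.zpowers y) :=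
          lt_of_le_of_ne (Subgroup.card_le_of_le h1.le) fun h =>
            h1.ne (Subgroup.eq_of_le_of_card_ge h1.le h.ge)
        obtain ⟨k, hk3, hk⟩ := (Nat.dvd_prime_pow Nat.prime_two).1
          (show Nat.card ↥(Subgroup.zpowers x ⊔ Subgroup.zpowers y) ∣ 2 ^ 3 from
            (Subgroup.card_subgroup_dvd_card _).trans (by rw [Nat.card_eq_fintype_card, hE8]; norm_num))
        rw [Nat.card_zpowers, h4, hk] at h2
        rw [hk, Nat.card_eq_fintype_card, hE8]
        interval_cases k <;> omega
      have hycen : ∀ e : E, y * e = e * y := by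
        have h1 : (⊤ : Subgroup E) ≤ Subgroup.centralizer ({y} : Set E) := by
          rw [← hsup]
          exact sup_le (Subgroup.zpowers_le.2 (Subgroup.mem_centralizer_singleton_iff.2 (hxc y)))
            (Subgroup.zpowers_le.2 (Subgroup.mem_centralizer_singleton_iff.2 rfl))
        exact fun e => (Subgroup.mem_centralizer_singleton_iff.1 (h1 (Subgroup.mem_top e))).symm
      refine hab ?_
      have h1 : (⊤ : Subgroup E) ≤ Subgroup.center E := by
        rw [← hsup]
        exact sup_le (Subgroup.zpowers_le.2 (Subgroup.mem_center_iff.2 fun e => (hxc e).symm))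
          (Subgroup.zpowers_le.2 (Subgroup.mem_center_iff.2 fun e => (hycen e).symm))
      exact (Subgroup.mem_center_iff.1 (h1 (Subgroup.mem_top a₀)) b₀).symm
    -- too many elements in one class
    obtain ⟨a, ha1, haz⟩ : ∃ a : E, a ≠ 1 ∧ a ≠ z := ⟨a₀, fun h => hab (by simp [h]),
      fun h => hab (h ▸ (hzc b₀).symm)⟩
    have hcyc : ∀ x : E, x ≠ 1 → x ≠ z → IsCyclic (Subgroup.centralizer ({x} : Set E)) :=
      fun x h1 h2 => (hC x h1 h2).2 ▸ inferInstance
    have hcl : (Finset.univ.filter fun x : E => IsConj a x).card ≤ 2 := by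
      have h1 := Subgroup.card_mul_index (Subgroup.centralizer ({a} : Set E))
      rw [(hC a ha1 haz).2, Nat.card_zpowers, (hC a ha1 haz).1, Nat.card_eq_fintype_card (α := E),
        hE8] at h1
      have h2 : (Finset.univ.filter fun x : E => IsConj a x).card =
          Nat.card (MulAction.orbit (ConjAct E) a) := by
        rw [← Fintype.card_subtype, ← Nat.card_eq_fintype_card]
        refine Nat.card_congr (Equiv.subtypeEquivRight fun x => ?_)
        rw [ConjAct.mem_orbit_conjAct, isConj_comm]
      rw [h2, Nat.card_coe_set_eq, ← MulAction.index_stabilizer]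
      have h3 : (MulAction.stabilizer (ConjAct E) a).index =
          (Subgroup.centralizer ({a} : Set E)).index := by
        rw [ConjAct.stabilizer_eq_centralizer]
        rfl
      rw [h3, (hC a ha1 haz).2]
      omega
    have hsix : 6 ≤ (Finset.univ.filter fun x : E => IsConj a x).card := by
      refine le_trans ?_ (Finset.card_le_card (s := Finset.univ \ {1, z}) fun x hx => ?_)
      · rw [Finset.card_sdiff_of_subset (Finset.subset_univ _), Finset.card_univ, hE8,
          Finset.card_pair (Ne.symm hz1)]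
      · simp only [Finset.mem_sdiff, Finset.mem_univ, true_and, Finset.mem_insert,
          Finset.mem_singleton, not_or] at hx
        exact Finset.mem_filter.2 ⟨Finset.mem_univ _,
          d.good a x ha1 hx.1 (hcyc a ha1 haz) (hcyc x hx.1 hx.2)⟩
    omega

/-- The module has two or three elements. -/
theorem Data.card_small (d : Data E V p n) : Nat.card V = 2 ∨ Nat.card V = 3 := by
  rcases Nat.lt_or_ge n 2 with hn | hn
  · obtain rfl : n = 1 := by have := d.pos; omega
    rcases d.rank_one with h | h <;> simp [d.card, h]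
  exfalso
  have hp := d.prime
  have hp2 : p ≠ 2 := by
    rintro rfl
    refine sum_squares_of_even d.even_val ?_
    obtain ⟨m, rfl⟩ : ∃ m, n = m + 2 := ⟨n - 2, by omega⟩
    rw [pow_add]
    have := Nat.one_le_two_pow (n := m)
    omega
  by_cases h2 : n = 2 ∧ ∃ k : ℕ, p + 1 = 2 ^ k
  · obtain ⟨rfl, k, hk⟩ := h2
    by_cases hp3 : p = 3
    · subst hp3
      exact d.not_three_two
    -- the odd part of `p - 1` is three modulo four
    have hp5 : 5 ≤ p := by
      have := hp.two_le
      rcases (show p = 4 ∨ 5 ≤ p by omega) with h | h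
      · exact absurd (h ▸ hp) (by norm_num)
      · exact h
    obtain ⟨m, rfl⟩ : ∃ m, k = m + 3 := by
      refine ⟨k - 3, ?_⟩
      by_contra h
      have : k ≤ 2 := by omega
      have := Nat.pow_le_pow_right (show 0 < 2 by norm_num) this
      omega
    set t := 2 ^ (m + 2) - 1 with ht
    have h1 : 4 ≤ 2 ^ (m + 2) := by rw [pow_add]; have := Nat.one_le_two_pow (n := m); omega
    have h2m : 2 ^ (m + 3) = 2 * 2 ^ (m + 2) := by rw [pow_succ']
    have hA : p ^ 2 - 1 = 2 ^ (m + 4) * t := by
      have hp1 : p - 1 = 2 * t := by omega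
      calc p ^ 2 - 1 = (p + 1) * (p - 1) := by rw [← Nat.sq_sub_sq, one_pow]
        _ = 2 ^ (m + 4) * t := by rw [hk, hp1, pow_succ' 2 (m + 3)]; ring
    refine sum_squares_of_even (A := t) (fun r hr h3 => ?_) ?_
    · haveI := Fact.mk hr
      have h4 := d.even_val r hr h3
      rw [hA, padicValNat.mul (pow_ne_zero _ two_ne_zero) (by omega),
        padicValNat.eq_zero_of_not_dvd (n := 2 ^ (m + 4)) fun h => by
          have := (Nat.prime_dvd_prime_iff_eq hr Nat.prime_two).1 (hr.dvd_of_dvd_pow h)
          omega, zero_add] at h4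
      exact h4
    · rw [ht, pow_add]
      have := Nat.one_le_two_pow (n := m)
      omega
  obtain ⟨r, hr⟩ := Zsigmondy.exists_primitive hp.two_le hn (fun h => hp2 h.1) h2
  obtain ⟨hrn, hnot, h4, -⟩ := d.primitive hn hr
  by_cases hexc : (p, n) ∈ Zsigmondy.exceptions
  · simp only [Zsigmondy.exceptions, List.mem_cons, Prod.mk.injEq, List.not_mem_nil, or_false] at hexc
    rcases hexc with ⟨rfl, rfl⟩ | ⟨rfl, rfl⟩ | ⟨rfl, rfl⟩ | ⟨rfl, rfl⟩ | ⟨rfl, rfl⟩ | ⟨rfl, rfl⟩ |
      ⟨rfl, rfl⟩ | ⟨rfl, rfl⟩
    all_goals first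
      | exact d.not_three_four
      | omega
  obtain ⟨r', hr', hbig⟩ := Zsigmondy.exists_large hp.two_le (by omega : 3 ≤ n) hexc
  obtain ⟨hrn', hnot', -, -⟩ := d.primitive hn hr'
  rcases hbig with h | h
  · omega
  · exact hnot' h

end Cfsg.Agent.Transfer.KThree
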