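import Cfsg.Agent.Lib.Char.QuotientDefect
import Cfsg.Agent.Lib.Char.RegularIntegral
import Cfsg.Agent.Lib.Block.QuotientBlocks

/-!
Over a normal abelian `p`-subgroup the regular rank of a block is at most the number of its
characters trivial on the subgroup.
-/

open scoped ComplexConjugate

namespace Cfsg.Agent.Transfer.KThree

open Cfsg Cfsg.Agent.Block Cfsg.Agent.Char Cfsg.Agent.Char.QuotDefect

set_option linter.unusedSectionVars false
set_option linter.style.haveILetI false

universe u

variable {G : Type u} [Group G] [Fintype G] {p : ℕ} [Fact p.Prime] {M : Ideal AlgInt}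

/-- Regular elements with one image modulo an abelian normal `p`-subgroup are conjugate. -/
theorem isConj_of_mk {N : Subgroup G} [N.Normal] (hN : IsPGroup p N)
    (hab : ∀ a ∈ N, ∀ b ∈ N, a * b = b * a) {g g' : G} (hg : ¬ p ∣ orderOf g)
    (hg' : ¬ p ∣ orderOf g') (h : (g : G ⧸ N) = (g' : G ⧸ N)) : IsConj g g' := by
  classical
  letI : CommGroup N :=
    { (inferInstance : Group N) with mul_comm := fun a b => Subtype.ext (hab a a.2 b b.2) }
  have hu : g' * g⁻¹ ∈ N := by
    have h1 : ((g' * g⁻¹ : G) : G ⧸ N) = 1 := by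
      rw [QuotientGroup.mk_mul, QuotientGroup.mk_inv, h, mul_inv_cancel]
    exact (QuotientGroup.eq_one_iff _).1 h1
  set u : N := ⟨g' * g⁻¹, hu⟩ with hudef
  let σ : N ≃* N := MulAut.conjNormal g
  have hσ : ∀ x : N, ((σ x : N) : G) = g * x * g⁻¹ := fun x => MulAut.conjNormal_apply g x
  let seq : ℕ → N := fun i => Nat.rec 1 (fun _ x => u * σ x) i
  have hseq : ∀ i, (seq i).1 * g ^ i = g' ^ i := by
    intro i
    induction i with
    | zero => simp [seq]
    | succ i ih =>
      show ((u * σ (seq i) : N) : G) * g ^ (i + 1) = _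
      rw [Subgroup.coe_mul, hσ, pow_succ' g', ← ih, hudef, pow_succ' g]
      group
  set m := orderOf g * orderOf g' with hm
  have hm1 : seq m = 1 := by
    have h1 := hseq m
    rw [hm, pow_mul, pow_orderOf_eq_one, one_pow, mul_one, mul_comm, pow_mul, pow_orderOf_eq_one,
      one_pow, mul_comm] at h1
    exact Subtype.ext h1
  set W : N := ∏ i ∈ Finset.range m, seq i with hW
  have hσW : u ^ m * σ W = W := by
    have e1 : ∏ k ∈ Finset.range m, seq (k + 1) = W := by
      have h2 := (Finset.prod_range_succ' seq m).symm.trans (Finset.prod_range_succ seq m)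
      rwa [hm1, mul_one, show seq 0 = 1 from rfl, mul_one, ← hW] at h2
    rw [show (∏ k ∈ Finset.range m, seq (k + 1)) = ∏ k ∈ Finset.range m, (u * σ (seq k)) from rfl,
      Finset.prod_mul_distrib, Finset.prod_const, Finset.card_range, ← map_prod, ← hW] at e1
    exact e1
  have hcop : (Nat.card N).Coprime m := by
    obtain ⟨k, hk⟩ := IsPGroup.iff_card.1 hN
    rw [hk]
    exact Nat.Coprime.pow_left k (Nat.Coprime.mul_right
      ((Fact.out : p.Prime).coprime_iff_not_dvd.2 hg)
      ((Fact.out : p.Prime).coprime_iff_not_dvd.2 hg'))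
  obtain ⟨w, hw⟩ := (powCoprime hcop).surjective W
  rw [powCoprime_apply] at hw
  rw [← hw, map_pow, ← mul_pow] at hσW
  have h1 : u * σ w = w := (powCoprime hcop).injective (by
    rw [powCoprime_apply, powCoprime_apply]
    exact hσW)
  refine isConj_iff.2 ⟨w, ?_⟩
  have h2 := congrArg Subtype.val h1
  rw [Subgroup.coe_mul, hσ] at h2
  calc (w : G) * g * (w : G)⁻¹ = ((u : G) * (g * w * g⁻¹)) * g * (w : G)⁻¹ := by rw [h2]
    _ = g' := by rw [hudef]; group

variable {B : Set (IrrCharacter G)}

open scoped Classical in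
/-- The members trivial on a subgroup. -/
noncomputable def kerMembers (N : Subgroup G) (B : Set (IrrCharacter G)) :
    Finset (IrrCharacter G) :=
  Finset.univ.filter fun χ : IrrCharacter G =>
    χ ∈ B ∧ ∀ x ∈ N, (χ : G → ℂ) x = (χ : G → ℂ) 1

theorem mem_kerMembers {N : Subgroup G} {χ : IrrCharacter G} :
    χ ∈ kerMembers N B ↔ χ ∈ B ∧ ∀ x ∈ N, (χ : G → ℂ) x = (χ : G → ℂ) 1 := by
  simp [kerMembers]

/-- The regular rank is at most the number of members trivial on the subgroup. -/
theorem blockRank_le_kerMembers (hM : IsPModular p M) (hB : IsPBlock M B) {N : Subgroup G}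
    [N.Normal] (hN : IsPGroup p N) (hab : ∀ a ∈ N, ∀ b ∈ N, a * b = b * a) :
    blockRank p B ≤ (kerMembers N B).card := by
  classical
  letI := Fintype.ofFinite (G ⧸ N)
  set S : Submodule ℂ (G → ℂ) := Submodule.span ℂ
    (((kerMembers N B).image fun χ : IrrCharacter G => pRegularPart p (χ : G → ℂ)) : Set (G → ℂ))
    with hS
  refine le_trans (Submodule.finrank_mono (t := S) (Submodule.span_le.2 ?_))
    ((finrank_span_finset_le_card _).trans Finset.card_image_le)
  rintro _ ⟨ξ, hξ, rfl⟩
  -- the function on the quotient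
  let f : G ⧸ N → ℂ := fun x =>
    if h : ¬ p ∣ orderOf x then (ξ : G → ℂ) (exists_regular_lift N h).choose else 0
  have hf : ∀ t : G, ¬ p ∣ orderOf t → f (t : G ⧸ N) = (ξ : G → ℂ) t := fun t ht => by
    have h : ¬ p ∣ orderOf (t : G ⧸ N) := fun h => ht (h.trans (orderOf_map_dvd (QuotientGroup.mk' N) t))
    simp only [f, dif_pos h]
    obtain ⟨h1, h2⟩ := (exists_regular_lift N h).choose_spec
    exact IsClass.eq_of_isConj (IsIrr.classFun ξ.2) (isConj_of_mk hN hab h2 ht h1)
  have hfc : IsClassFunction (G ⧸ N) f := by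
    intro x y
    obtain ⟨t, rfl⟩ := QuotientGroup.mk_surjective y
    have ho : orderOf ((t : G ⧸ N) * x * (t : G ⧸ N)⁻¹) = orderOf x :=
      MulEquiv.orderOf_eq (MulAut.conj (t : G ⧸ N)) x
    by_cases hx : p ∣ orderOf x
    · simp only [f, dif_neg (not_not.2 hx), dif_neg (not_not.2 (ho ▸ hx : p ∣ _))]
    · obtain ⟨s, rfl, hs⟩ := exists_regular_lift N hx
      rw [hf s hs, ← QuotientGroup.mk_mul, ← QuotientGroup.mk_inv, ← QuotientGroup.mk_mul, hf,
        IsIrr.classFun ξ.2 s t]
      rwa [show orderOf (t * s * t⁻¹) = orderOf s from MulEquiv.orderOf_eq (MulAut.conj t) s]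
  set c : IrrCharacter (G ⧸ N) → ℂ := fun η => classInner f (η : G ⧸ N → ℂ)
  set I := Finset.univ.filter fun η : IrrCharacter (G ⧸ N) => qinfl N η ∈ B
  set O := Finset.univ.filter fun η : IrrCharacter (G ⧸ N) => ¬ qinfl N η ∈ B
  have hexp : ∀ g : G, ¬ p ∣ orderOf g → (ξ : G → ℂ) g =
      (∑ η ∈ I, c η * (qinfl N η : G → ℂ) g) + ∑ η ∈ O, c η * (qinfl N η : G → ℂ) g := by
    intro g hg
    rw [Finset.sum_filter_add_sum_filter_not]
    have h := congrFun (classFunction_expansion hfc) (g : G ⧸ N)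
    rw [hf g hg] at h
    simp only [Finset.sum_apply, Pi.smul_apply, smul_eq_mul] at h
    exact h
  -- the outer part vanishes
  set R := Finset.univ.filter (fun g : G => ¬ p ∣ orderOf g) with hR
  set F : G → ℂ := fun g => ∑ η ∈ O, c η * (qinfl N η : G → ℂ) g
  have hort : ∀ χ : IrrCharacter G, χ ∈ B → ∑ g ∈ R, (χ : G → ℂ) g * conj (F g) = 0 := by
    intro χ hχ
    simp only [F, map_sum, map_mul, Finset.mul_sum]
    rw [Finset.sum_comm]
    refine Finset.sum_eq_zero fun η hη => ?_
    have h := Contrib.regSum_eq_zero_of_not_mem hM hB hχ (Finset.mem_filter.1 hη).2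
    rw [regSum_eq_sum] at h
    rw [← mul_zero (conj (c η)), ← h, Finset.mul_sum]
    exact Finset.sum_congr rfl fun g _ => by ring
  have hzero : ∑ g ∈ R, F g * conj (F g) = 0 := by
    have hsub : ∀ g ∈ R, F g * conj (F g) =
        (ξ : G → ℂ) g * conj (F g) - ∑ η ∈ I, c η * ((qinfl N η : G → ℂ) g * conj (F g)) := by
      intro g hg
      simp only [← mul_assoc]
      rw [← Finset.sum_mul, hexp g (Finset.mem_filter.1 hg).2]
      ring
    rw [Finset.sum_congr rfl hsub, Finset.sum_sub_distrib, hort ξ hξ, Finset.sum_comm,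
      Finset.sum_eq_zero fun η hη => by
        rw [← Finset.mul_sum, hort _ (Finset.mem_filter.1 hη).2, mul_zero], sub_zero]
  have hF : ∀ g ∈ R, F g = 0 := by
    simp only [Complex.mul_conj, ← Complex.ofReal_sum, Complex.ofReal_eq_zero] at hzero
    exact fun g hg => Complex.normSq_eq_zero.1
      ((Finset.sum_eq_zero_iff_of_nonneg fun g _ => Complex.normSq_nonneg _).1 hzero g hg)
  have heq : pRegularPart p (ξ : G → ℂ) =
      ∑ η ∈ I, c η • pRegularPart p (qinfl N η : G → ℂ) := by
    funext g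
    simp only [Finset.sum_apply, Pi.smul_apply, smul_eq_mul, pRegularPart]
    by_cases hg : IsPRegular p g
    · simp only [if_pos hg]
      rw [hexp g hg]
      have := hF g (Finset.mem_filter.2 ⟨Finset.mem_univ _, hg⟩)
      simp only [F] at this
      rw [this, add_zero]
    · simp [hg]
  show pRegularPart p (ξ : G → ℂ) ∈ S
  rw [heq]
  refine Submodule.sum_mem _ fun η hη => Submodule.smul_mem _ _ (Submodule.subset_span ?_)
  refine Finset.mem_coe.2 (Finset.mem_image.2 ⟨qinfl N η, mem_kerMembers.2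
    ⟨(Finset.mem_filter.1 hη).2, fun x hx => ?_⟩, rfl⟩)
  rw [qinfl_apply, qinfl_apply, (QuotientGroup.eq_one_iff x).2 hx, QuotientGroup.mk_one]

end Cfsg.Agent.Transfer.KThree
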