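import Cfsg.Agent.Lib.Block.NormalDefect
import Cfsg.Agent.Lib.Char.RankOneSmall
import Cfsg.Agent.Lib.Char.CliffordCorr
import Cfsg.Agent.Lib.Transfer.KThree.Linear
import Cfsg.Agent.Lib.Transfer.KThree.Good
import Cfsg.Agent.Lib.Transfer.KThree.Rank
import Mathlib.GroupTheory.FiniteAbelian.Duality

/-!
A block with at most three characters and a normal abelian defect group has defect group of order
two or three.
-/

open scoped ComplexConjugate

namespace Cfsg.Agent.Transfer.KThree

open Cfsg Cfsg.Agent.Block Cfsg.Agent.Char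

set_option linter.unusedSectionVars false
set_option linter.style.haveILetI false
set_option maxHeartbeats 1600000

universe u

variable {G : Type u} [Group G] [Fintype G] {p : ℕ} [Fact p.Prime] {M : Ideal AlgInt}

variable {P L : Subgroup G}

/-- A character of `L` restricting to `P` as a multiple of a linear character. -/
def Res (hPL : P ≤ L) (η : IrrCharacter L) (lam : P →* ℂˣ) : Prop :=
  ∀ x : P, (η : L → ℂ) ⟨x, hPL x.2⟩ = (η : L → ℂ) 1 * (lam x : ℂ)

theorem Res.unique {hPL : P ≤ L} {η : IrrCharacter L} {lam mu : P →* ℂˣ} (h : Res hPL η lam)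
    (h' : Res hPL η mu) : lam = mu :=
  MonoidHom.ext fun x => Units.ext (mul_left_cancel₀ (IsIrr.one_ne_zero η.2) ((h x).symm.trans (h' x)))

/-- The action on the linear characters. -/
noncomputable def actHom (P : Subgroup G) [P.Normal] (T : Subgroup G) :
    T →* MulAut (P →* ℂˣ) where
  toFun t :=
    { toFun := fun lam => lam.comp (conjEquivN P (t : G)⁻¹).toMonoidHom
      invFun := fun lam => lam.comp (conjEquivN P (t : G)).toMonoidHom
      left_inv := fun lam => MonoidHom.ext fun x => congrArg lam (Subtype.ext (by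
        show ((conjEquivN P (t : G)⁻¹ (conjEquivN P (t : G) x) : P) : G) = x
        rw [conjEquivN_apply, conjEquivN_apply]
        group))
      right_inv := fun lam => MonoidHom.ext fun x => congrArg lam (Subtype.ext (by
        show ((conjEquivN P (t : G) (conjEquivN P (t : G)⁻¹ x) : P) : G) = x
        rw [conjEquivN_apply, conjEquivN_apply]
        group))
      map_mul' := fun a b => rfl }
  map_one' := MulEquiv.ext fun lam => MonoidHom.ext fun x => congrArg lam (Subtype.ext (by
    show ((conjEquivN P ((1 : T) : G)⁻¹ x : P) : G) = x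
    rw [conjEquivN_apply]; simp))
  map_mul' := fun a b => MulEquiv.ext fun lam => MonoidHom.ext fun x => congrArg lam (Subtype.ext (by
    show ((conjEquivN P ((a * b : T) : G)⁻¹ x : P) : G) =
      ((conjEquivN P (b : G)⁻¹ (conjEquivN P (a : G)⁻¹ x) : P) : G)
    rw [conjEquivN_apply, conjEquivN_apply, conjEquivN_apply, Subgroup.coe_mul]
    group))

theorem actHom_apply [P.Normal] (T : Subgroup G) (t : T) (lam : P →* ℂˣ) (x : P) :
    actHom P T t lam x = lam (conjEquivN P (t : G)⁻¹ x) := rfl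

/-- The main count. -/
theorem abelian_small (hM : IsPModular p M) {B : Set (IrrCharacter G)} (hB : IsPBlock M B)
    [P.Normal] (hP : IsDefectGroup p M B P) (hab : ∀ a ∈ P, ∀ b ∈ P, a * b = b * a) (hP1 : P ≠ ⊥)
    (hk : Nat.card B ≤ 3) : Nat.card P = 2 ∨ Nat.card P = 3 := by
  classical
  have hp : p.Prime := Fact.out
  have hPp : IsPGroup p P := IsDefectGroup.isPGroup hP
  have hPd := card_defectGroup hM hB hP
  have hd : blockDefect p B ≠ 0 := fun h => hP1 (Subgroup.card_eq_one.1 (by rw [hPd, h, pow_zero]))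
  obtain ⟨hlk, -, heq⟩ := blockRank_facts hM hB
  have hlpos := Res.blockRank_pos (p := p) hM hB
  have hlne : Nat.card B ≠ blockRank p B := fun h => hd (heq.2 h)
  by_cases hl1 : blockRank p B = 1
  · obtain ⟨-, hcard, -⟩ := Spec.nilpotent_of_rank_one_small hM hB hP hP1 hl1 (by omega)
    have h2 : 2 ≤ Nat.card P := P.one_lt_card_iff_ne_bot.2 hP1
    omega
  have hk3 : Nat.card B = 3 := by omega
  have hl2 : blockRank p B = 2 := by omega
  -- the members trivial on the defect group
  set Z := kerMembers P B with hZ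
  have hZ2 : 2 ≤ Z.card := hl2 ▸ blockRank_le_kerMembers hM hB hPp hab
  set A := Finset.univ.filter (fun χ : IrrCharacter G => χ ∈ B) with hA
  have hAc : A.card = 3 := by
    rw [← hk3, Nat.card_eq_fintype_card, Fintype.card_subtype]
  have hZA : Z ⊆ A := fun χ hχ =>
    Finset.mem_filter.2 ⟨Finset.mem_univ _, (mem_kerMembers.1 hχ).1⟩
  -- the canonical block
  set L := P ⊔ Subgroup.centralizer (P : Set G) with hLdef
  haveI : (Subgroup.centralizer (P : Set G)).Normal := Subgroup.normal_centralizer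
  haveI : L.Normal := Subgroup.sup_normal _ _
  letI := Fintype.ofFinite L
  have hPL : P ≤ L := le_sup_left
  have hLc : ∀ c ∈ L, ∀ x ∈ P, c * x = x * c := by
    intro c hc x hx
    have hle : L ≤ Subgroup.centralizer (P : Set G) :=
      sup_le (fun a ha => Subgroup.mem_centralizer_iff.2 fun b hb => hab b hb a ha) le_rfl
    exact (Subgroup.mem_centralizer_iff.1 (hle hc) x hx).symm
  obtain ⟨χ₀, hχ₀⟩ := pblock_nonempty hM hB
  obtain ⟨θ₀, hθ₀⟩ := exists_constituent_res L χ₀
  obtain ⟨hbD, hbB⟩ := covered_block hM hB hP hχ₀ hθ₀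
  set b := blockOf M (θ₀ : L → ℂ) with hb
  have hbb : IsPBlock M b := isPBlock_blockOf θ₀
  have htop : P.subgroupOf L ⊔ Subgroup.centralizer (P.subgroupOf L : Set L) = ⊤ := by
    rw [eq_top_iff]
    intro x _
    exact Subgroup.mem_sup_right (Subgroup.mem_centralizer_iff.2 fun w hw =>
      Subtype.ext (hLc x x.2 w hw).symm)
  haveI : (P.subgroupOf L).Normal := Subgroup.Normal.subgroupOf inferInstance _
  obtain ⟨⟨θ, ⟨hθb, hθker⟩, hθu⟩, -, hbc, hfull⟩ := sup_centralizer_block_full hM htop hbb hbD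
  let eP := Subgroup.subgroupOfEquivOfLe hPL
  have hVc : Nat.card (P →* ℂˣ) = Nat.card P := by
    letI : CommGroup P :=
      { (inferInstance : Group P) with mul_comm := fun a b => Subtype.ext (hab a a.2 b b.2) }
    exact CommGroup.card_monoidHom_of_hasEnoughRootsOfUnity P ℂ
  haveI : Finite (P →* ℂˣ) := Nat.finite_of_card_ne_zero (hVc ▸ Nat.card_pos.ne')
  have hex : ∀ lam : P →* ℂˣ, ∃ η ∈ b, Res hPL η lam := by
    intro lam
    let φ : IrrCharacter (P.subgroupOf L) :=
      ⟨fun x => ((lam.comp eP.toMonoidHom) x : ℂ), isIrr_linear (lam.comp eP.toMonoidHom)⟩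
    obtain ⟨η, hη, θ', -, -, hres, -⟩ := hfull φ
    refine ⟨η, hη, fun x => ?_⟩
    have h1 : (φ : P.subgroupOf L → ℂ) 1 = 1 := by simp [φ]
    have h := hres ⟨⟨x, hPL x.2⟩, x.2⟩
    rw [h1, div_one] at h
    exact h
  choose η hη hηr using hex
  have hηinj : Function.Injective η := fun a a' h => (hηr a).unique (h ▸ hηr a')
  have hηsurj : ∀ ξ ∈ b, ∃ lam, ξ = η lam := by
    intro ξ hξ
    have hcb : Nat.card b = Nat.card (P →* ℂˣ) := by
      rw [hbc, hVc]
      have hc' : ∀ a c : P.subgroupOf L, a * c = c * a := fun a c =>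
        Subtype.ext (Subtype.ext (hab _ a.2 _ c.2))
      rw [← Nat.card_congr eP.toEquiv]
      refine (Nat.card_congr (Equiv.ofBijective (ConjClasses.mk : P.subgroupOf L → _)
        ⟨fun a a' h => ?_, ConjClasses.mk_surjective⟩)).symm
      obtain ⟨t, ht⟩ := isConj_iff.1 (ConjClasses.mk_eq_mk_iff_isConj.1 h)
      rw [← ht, hc' t a, mul_inv_cancel_right]
    obtain ⟨lam, hlam⟩ := ((Nat.bijective_iff_injective_and_card
      (fun lam => (⟨η lam, hη lam⟩ : b))).2
      ⟨fun a a' h => hηinj (congrArg Subtype.val h), hcb.symm⟩).2 ⟨ξ, hξ⟩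
    exact ⟨lam, (congrArg Subtype.val hlam).symm⟩
  have hηu : ∀ {ξ : IrrCharacter L} {lam}, ξ ∈ b → Res hPL ξ lam → ξ = η lam := by
    intro ξ lam hξ hr
    obtain ⟨mu, rfl⟩ := hηsurj ξ hξ
    rw [(hηr mu).unique hr]
  have hθr : Res hPL θ 1 := fun x => by
    rw [hθker ⟨x, hPL x.2⟩ x.2]; simp
  have hθ1 : θ = η 1 := hηu hθb hθr
  -- conjugation
  have hconj : ∀ {g : G} {ξ : IrrCharacter L} {lam : P →* ℂˣ}, Res hPL ξ lam →
      Res hPL (conjPerm L g ξ) (lam.comp (conjEquivN P g).toMonoidHom) := by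
    intro g ξ lam h x
    show conjN L g (ξ : L → ℂ) _ = conjN L g (ξ : L → ℂ) 1 * _
    rw [conjN_eq_comp]
    simp only [map_one]
    refine Eq.trans (congrArg (ξ : L → ℂ) (Subtype.ext ?_)) (h (conjEquivN P g x))
    show ((conjEquivN L g ⟨x, hPL x.2⟩ : L) : G) = ((conjEquivN P g x : P) : G)
    rw [conjEquivN_apply, conjEquivN_apply]
  set T := inertia L (θ : L → ℂ) with hTdef
  have hLT : L ≤ T := le_inertia L (IsIrr.classFun θ.2)
  have hmemT : ∀ {g : G}, g ∈ T ↔ conjPerm L g θ = θ := fun {g} =>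
    ⟨fun h => Subtype.ext h, fun h => congrArg Subtype.val h⟩
  have hblk : ∀ {g : G} {ξ : IrrCharacter L}, g ∈ T → ξ ∈ b → conjPerm L g ξ ∈ b := by
    intro g ξ hg hξ
    refine pblock_mem_of_sameBlock hM hbb hθb ?_
    rw [← hmemT.1 hg]
    exact sameBlock_conjPerm L g (pblock_sameBlock hM hbb hθb hξ)
  have hback : ∀ {g : G} {ξ : IrrCharacter L}, ξ ∈ b → conjPerm L g ξ ∈ b → g ∈ T := by
    intro g ξ hξ hg
    refine hmemT.2 (hηu ?_ ?_ |>.trans hθ1.symm)
    · exact pblock_mem_of_sameBlock hM hbb hg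
        (sameBlock_conjPerm L g (pblock_sameBlock hM hbb hξ hθb))
    · intro x
      rw [hconj hθr x]
      simp
  have hinB : ∀ {χ : IrrCharacter G} {ξ : IrrCharacter L}, ξ ∈ b →
      classInner (fun n : L => (χ : G → ℂ) n) (ξ : L → ℂ) ≠ 0 → χ ∈ B := by
    intro χ ξ hξ hc
    have h := (normal_pC_induces hM P hPp hbb).2 (blockOf M (χ : G → ℂ)) (isPBlock_blockOf χ)
      ⟨χ, mem_blockOf_self hM χ, ξ, hξ, hc⟩
    rw [← induced_unique hM h hbB]
    exact mem_blockOf_self hM χ
  have hclassFun : ∀ χ : IrrCharacter G, IsClassFunction G (χ : G → ℂ) := fun χ => irr_classFun χ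
  have hsame : ∀ {χ : IrrCharacter G} {lam mu : P →* ℂˣ},
      classInner (fun n : L => (χ : G → ℂ) n) (η lam : L → ℂ) ≠ 0 →
      classInner (fun n : L => (χ : G → ℂ) n) (η mu : L → ℂ) ≠ 0 →
      ∃ g : T, conjPerm L (g : G) (η lam) = η mu ∧
        mu = lam.comp (conjEquivN P (g : G)).toMonoidHom := by
    intro χ lam mu h1 h2
    obtain ⟨g, hg⟩ := exists_conj_of_constituents L χ.2 (η lam).2 (η mu).2 h1 h2
    have hg' : conjPerm L g (η lam) = η mu := Subtype.ext hg
    have hgT : g ∈ T := hback (hη lam) (hg'.symm ▸ hη mu)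
    refine ⟨⟨g, hgT⟩, hg', (hηr mu).unique ?_⟩
    rw [← hg']
    exact hconj (hηr lam)
  have hkerover : ∀ {χ : IrrCharacter G},
      classInner (fun n : L => (χ : G → ℂ) n) (θ : L → ℂ) ≠ 0 → χ ∈ Z := by
    intro χ hc
    refine mem_kerMembers.2 ⟨hinB hθb hc, fun x hx => ?_⟩
    have h := OverCyclic.apply_eq_one θ.2 χ.2 hc (x := ⟨x, hPL hx⟩) fun g =>
      hθker _ (show g * x * g⁻¹ ∈ P from Subgroup.Normal.conj_mem inferInstance x hx g)
    exact h
  -- characters over the others are outside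
  have houter : ∀ {χ : IrrCharacter G} {lam : P →* ℂˣ}, lam ≠ 1 →
      classInner (fun n : L => (χ : G → ℂ) n) (η lam : L → ℂ) ≠ 0 → χ ∈ A \ Z := by
    intro χ lam hlam hc
    refine Finset.mem_sdiff.2 ⟨Finset.mem_filter.2 ⟨Finset.mem_univ _, hinB (hη lam) hc⟩,
      fun hZχ => hlam ?_⟩
    have hker := (mem_kerMembers.1 hZχ).2
    refine MonoidHom.ext fun x => Units.ext ?_
    have h := clifford L χ.2 (η lam).2 hc
    -- the restriction to `P` of the constituent is trivial
    by_contra hne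
    obtain ⟨ξ, hξ⟩ : ∃ ξ : IrrCharacter L, conjN L 1 (η lam : L → ℂ) = (ξ : L → ℂ) :=
      ⟨η lam, conjN_one L _⟩
    have hχ1 := clifford_one L χ.2 (η lam).2 hc
    have hx := congrFun h ⟨x, hPL x.2⟩
    simp only [Pi.smul_apply, Finset.sum_apply, smul_eq_mul] at hx
    rw [hker x x.2] at hx
    -- all conjugates have the same norm
    have hnorm : ∀ φ ∈ conjOrbit L (η lam : L → ℂ),
        ∃ c : ℂ, ‖c‖ = 1 ∧ φ ⟨x, hPL x.2⟩ = (η lam : L → ℂ) 1 * c := by
      intro φ hφ
      obtain ⟨g, rfl⟩ := (mem_conjOrbit L).1 hφ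
      refine ⟨((lam.comp (conjEquivN P g).toMonoidHom) x : ℂ), ?_, ?_⟩
      · refine Complex.norm_eq_one_of_pow_eq_one (n := Nat.card P) ?_ Nat.card_pos.ne'
        rw [← Units.val_pow_eq_pow_val, ← map_pow, pow_card_eq_one', map_one, Units.val_one]
      · have h' := hconj (g := g) (hηr lam) x
        show conjN L g (η lam : L → ℂ) ⟨x, hPL x.2⟩ = _
        refine h'.trans (congrArg (· * _) ?_)
        show conjN L g (η lam : L → ℂ) 1 = _
        rw [conjN_eq_comp]
        simp only [map_one]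
    choose! c hc1 hc2 using hnorm
    rw [Finset.sum_congr rfl hc2, ← Finset.mul_sum, hχ1] at hx
    have hm : classInner (fun n : L => (χ : G → ℂ) n) (η lam : L → ℂ) ≠ 0 := hc
    have hsum : ∑ φ ∈ conjOrbit L (η lam : L → ℂ), c φ =
        (((conjOrbit L (η lam : L → ℂ)).card : ℕ) : ℂ) := by
      rw [card_conjOrbit]
      refine mul_left_cancel₀ (mul_ne_zero hm (IsIrr.one_ne_zero (η lam).2)) ?_
      linear_combination -hx
    have hone : ∀ φ ∈ conjOrbit L (η lam : L → ℂ), c φ = 1 := by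
      have hre : ∑ φ ∈ conjOrbit L (η lam : L → ℂ), (1 - (c φ).re) = 0 := by
        rw [Finset.sum_sub_distrib, Finset.sum_const, nsmul_eq_mul, mul_one, ← Complex.re_sum, hsum,
          Complex.natCast_re, sub_self]
      intro φ hφ
      have h1 := (Finset.sum_eq_zero_iff_of_nonneg fun φ hφ => by
        have := Complex.re_le_norm (c φ)
        rw [hc1 φ hφ] at this
        linarith).1 hre φ hφ
      have h2 : Complex.normSq (c φ) = 1 := by
        rw [Complex.normSq_eq_norm_sq, hc1 φ hφ, one_pow]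
      rw [Complex.normSq_apply] at h2
      refine Complex.ext (by simp only [Complex.one_re]; linarith) ?_
      simp only [Complex.one_im]
      nlinarith
    have hmem : (η lam : L → ℂ) ∈ conjOrbit L (η lam : L → ℂ) :=
      (mem_conjOrbit L).2 ⟨1, conjN_one L _⟩
    have := hc2 _ hmem
    rw [hone _ hmem, mul_one, hηr lam x] at this
    refine hne ?_
    rw [MonoidHom.one_apply, Units.val_one]
    exact mul_left_cancel₀ (IsIrr.one_ne_zero (η lam).2) (this.trans (mul_one _).symm)
  have hAZ : (A \ Z).card ≤ 1 := by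
    rw [Finset.card_sdiff_of_subset hZA, hAc]
    omega
  haveI hVnt : Nontrivial (P →* ℂˣ) := by
    rw [← Finite.one_lt_card_iff_nontrivial, hVc]
    exact P.one_lt_card_iff_ne_bot.2 hP1
  -- one orbit
  have htrans : ∀ lam mu : P →* ℂˣ, lam ≠ 1 → mu ≠ 1 →
      ∃ g : T, mu = lam.comp (conjEquivN P (g : G)).toMonoidHom := by
    intro lam mu hlam hmu
    obtain ⟨χ, hχ⟩ := exists_over L (η lam)
    obtain ⟨χ', hχ'⟩ := exists_over L (η mu)
    obtain rfl : χ = χ' := Finset.card_le_one.1 hAZ _ (houter hlam hχ) _ (houter hmu hχ')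
    obtain ⟨g, -, hg⟩ := hsame hχ hχ'
    exact ⟨g, hg⟩
  have hZ' : Z.card ≤ 2 := by
    obtain ⟨lam, hlam⟩ := exists_ne (1 : P →* ℂˣ)
    obtain ⟨χ, hχ⟩ := exists_over L (η lam)
    have h := Finset.card_pos.2 ⟨χ, houter hlam hχ⟩
    rw [Finset.card_sdiff_of_subset hZA, hAc] at h
    omega
  -- the inertial quotient
  set L' := L.subgroupOf T with hL'
  haveI : L'.Normal := Subgroup.Normal.subgroupOf inferInstance _
  letI := Fintype.ofFinite T
  letI := Fintype.ofFinite L'
  let α := actHom P T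
  have hker : ∀ t : T, t ∈ α.ker ↔ t ∈ L' := by
    intro t
    constructor
    · intro ht
      refine Subgroup.mem_subgroupOf.2 (Subgroup.mem_sup_right
        (Subgroup.mem_centralizer_iff.2 fun x hx => ?_))
      have hfix : conjEquivN P (t : G)⁻¹ ⟨x, hx⟩ = ⟨x, hx⟩ := by
        by_contra hne
        obtain ⟨lam, hlam⟩ : ∃ lam : P →* ℂˣ,
            lam (conjEquivN P (t : G)⁻¹ ⟨x, hx⟩ * ⟨x, hx⟩⁻¹) ≠ 1 := by
          letI : CommGroup P :=
            { (inferInstance : Group P) with mul_comm := fun a b => Subtype.ext (hab a a.2 b b.2) }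
          exact CommGroup.exists_apply_ne_one_of_hasEnoughRootsOfUnity P ℂ (mt mul_inv_eq_one.1 hne)
        refine hlam ?_
        have h := DFunLike.congr_fun (MonoidHom.mem_ker.1 ht) lam
        have h' : lam (conjEquivN P (t : G)⁻¹ ⟨x, hx⟩) = lam ⟨x, hx⟩ :=
          DFunLike.congr_fun h ⟨x, hx⟩
        rw [map_mul, map_inv, h', mul_inv_cancel]
      have h := congrArg Subtype.val hfix
      rw [conjEquivN_apply] at h
      simp only [inv_inv] at h
      calc x * t = (t : G) * ((t : G)⁻¹ * x * t) := by group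
        _ = t * x := by rw [h]
    · intro ht
      refine MonoidHom.mem_ker.2 (MulEquiv.ext fun lam => MonoidHom.ext fun x => ?_)
      show lam (conjEquivN P (t : G)⁻¹ x) = lam x
      refine congrArg lam (Subtype.ext ?_)
      rw [conjEquivN_apply]
      simp only [inv_inv]
      rw [mul_assoc,
        ← hLc _ (Subgroup.mem_subgroupOf.1 ht) _ x.2, inv_mul_cancel_left]
  let ψ : T ⧸ L' →* MulAut (P →* ℂˣ) := QuotientGroup.lift L' α fun t ht => (hker t).2 ht
  letI : MulDistribMulAction (T ⧸ L') (P →* ℂˣ) :=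
    { smul := fun q lam => ψ q lam
      one_smul := fun lam => by
        show ψ 1 lam = lam
        rw [map_one]; rfl
      mul_smul := fun q q' lam => by
        show ψ (q * q') lam = ψ q (ψ q' lam)
        rw [map_mul]; rfl
      smul_mul := fun q a c => map_mul (ψ q) a c
      smul_one := fun q => map_one (ψ q) }
  have hsmul : ∀ (t : T) (lam : P →* ℂˣ), (t : T ⧸ L') • lam = α t lam := fun t lam => rfl
  haveI : FaithfulSMul (T ⧸ L') (P →* ℂˣ) := by
    refine ⟨fun {q q'} h => ?_⟩
    obtain ⟨t, rfl⟩ := QuotientGroup.mk_surjective q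
    obtain ⟨t', rfl⟩ := QuotientGroup.mk_surjective q'
    refine QuotientGroup.eq.2 ((hker _).1 (MonoidHom.mem_ker.2 ?_))
    have he : α t = α t' := MulEquiv.ext fun lam => h lam
    rw [map_mul, map_inv, he, inv_mul_cancel]
  set θT : L' → ℂ := fun k => (θ : L → ℂ) ⟨((k : T) : G), k.2⟩ with hθT
  have hθTi : IsIrrCharacter L' θT := IsIrr.comp_mulEquiv (Subgroup.subgroupOfEquivOfLe hLT) θ.2
  have hinvT : inertia L' θT = ⊤ := by
    refine eq_top_iff.2 fun t _ => (mem_inertia L').2 (funext fun k => ?_)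
    have h := congrFun ((mem_inertia L).1 t.2) ⟨((k : T) : G), k.2⟩
    simpa [conjN, θT] using h
  have hconv : ∀ ψ' : IrrCharacter T, ψ' ∈ lying L' θT →
      classInner (fun n : L => (ψ' : T → ℂ) ⟨(n : G), hLT n.2⟩) (θ : L → ℂ) ≠ 0 := by
    intro ψ' hψ'
    rw [← Corr.classInner_subgroupOf L hLT (fun n : L => (ψ' : T → ℂ) ⟨(n : G), hLT n.2⟩)
      (θ : L → ℂ)]
    exact mem_lying.1 hψ'
  have htwo : (lying L' θT).card ≤ 2 := by
    have hmap : ∀ ψ' : lying L' θT, ∃ χ : IrrCharacter G, χ ∈ Z ∧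
        (χ : G → ℂ) = indFun T ((ψ' : IrrCharacter T) : T → ℂ) := by
      intro ψ'
      have h0 := hconv _ ψ'.2
      obtain ⟨hirr, -⟩ := Corr.indFun_irr L θ.2 hTdef hLT (ψ' : IrrCharacter T).2 h0
      refine ⟨⟨_, hirr⟩, hkerover ?_, rfl⟩
      have h1 : classInner (fun x : T => indFun T ((ψ' : IrrCharacter T) : T → ℂ) x)
          ((ψ' : IrrCharacter T) : T → ℂ) ≠ 0 := by
        rw [← classInner_indFun_right T _ (IsIrr.classFun hirr), classInner_self_irr hirr]
        exact one_ne_zero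
      obtain ⟨-, h2, -⟩ := Corr.core L θ.2 hTdef hLT (ψ' : IrrCharacter T).2 h0 hirr h1
      exact h2 ▸ h0
    choose F hF hFe using hmap
    refine le_trans ?_ hZ'
    rw [← Fintype.card_coe, ← Fintype.card_coe Z]
    refine Fintype.card_le_of_injective (fun ψ' => (⟨F ψ', hF ψ'⟩ : Z)) fun a a' h => ?_
    have h' : F a = F a' := congrArg Subtype.val h
    obtain ⟨-, huniq⟩ := Corr.indFun_irr L θ.2 hTdef hLT (a' : IrrCharacter T).2 (hconv _ a'.2)
    refine Subtype.ext (Subtype.ext (huniq _ (a : IrrCharacter T).2 (hconv _ a.2) ?_))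
    rw [← hFe, ← hFe, h']
  obtain ⟨n, hn⟩ := IsPGroup.iff_card.1 hPp
  have hnpos : 0 < n := Nat.pos_of_ne_zero fun h => hP1 (Subgroup.card_eq_one.1 (by rw [hn, h, pow_zero]))
  -- all nontrivial linear characters are alike
  have htr : ∀ lam mu : P →* ℂˣ, lam ≠ 1 → mu ≠ 1 → ∃ e : T ⧸ L', e • lam = mu := by
    intro lam mu hlam hmu
    obtain ⟨g, hg⟩ := htrans lam mu hlam hmu
    refine ⟨((g⁻¹ : T) : T ⧸ L'), ?_⟩
    rw [hsmul, hg]
    refine MonoidHom.ext fun x => congrArg lam (Subtype.ext ?_)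
    show ((conjEquivN P ((g⁻¹ : T) : G)⁻¹ x : P) : G) = ((conjEquivN P (g : G) x : P) : G)
    rw [conjEquivN_apply, conjEquivN_apply, Subgroup.coe_inv, inv_inv]
  have hexp : ∀ lam : P →* ℂˣ, lam ^ p = 1 := by
    obtain ⟨lam₀, h₀⟩ := exists_prime_orderOf_dvd_card' (G := P →* ℂˣ) p
      (by rw [hVc, hn]; exact dvd_pow_self p hnpos.ne')
    have h1 : lam₀ ≠ 1 := fun h => hp.one_lt.ne' (by rw [← h₀, h, orderOf_one])
    intro lam
    by_cases hlam : lam = 1
    · subst hlam; exact MonoidHom.ext fun x => by simp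
    · obtain ⟨e, he⟩ := htr lam₀ lam h1 hlam
      rw [← he, ← smul_pow', ← h₀, pow_orderOf_eq_one, smul_one]
  have hsq : ∀ lam : P →* ℂˣ, lam ≠ 1 →
      IsSquare (Nat.card (MulAction.stabilizer (T ⧸ L') lam)) := by
    intro lam hlam
    set I := inertia L (η lam : L → ℂ) with hI
    have hLI : L ≤ I := le_inertia L (IsIrr.classFun (η lam).2)
    have hIT : I ≤ T := fun g hg => hback (hη lam) (by
      rw [show conjPerm L g (η lam) = η lam from Subtype.ext hg]
      exact hη lam)
    letI := Fintype.ofFinite I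
    set L'' := L.subgroupOf I
    haveI : L''.Normal := Subgroup.Normal.subgroupOf inferInstance _
    letI := Fintype.ofFinite L''
    set ηI : L'' → ℂ := fun k => (η lam : L → ℂ) ⟨((k : I) : G), k.2⟩ with hηI
    have hηIi : IsIrrCharacter L'' ηI :=
      IsIrr.comp_mulEquiv (Subgroup.subgroupOfEquivOfLe hLI) (η lam).2
    have hinvI : inertia L'' ηI = ⊤ := by
      refine eq_top_iff.2 fun t _ => (mem_inertia L'').2 (funext fun k => ?_)
      have h := congrFun ((mem_inertia L).1 t.2) ⟨((k : I) : G), k.2⟩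
      simpa [conjN, ηI] using h
    have hone : (lying L'' ηI).card ≤ 1 := by
      refine Finset.card_le_one.2 fun a ha a' ha' => ?_
      have hcv : ∀ ψ' : IrrCharacter I, ψ' ∈ lying L'' ηI →
          classInner (fun n : L => (ψ' : I → ℂ) ⟨(n : G), hLI n.2⟩) (η lam : L → ℂ) ≠ 0 := by
        intro ψ' hψ'
        rw [← Corr.classInner_subgroupOf L hLI (fun n : L => (ψ' : I → ℂ) ⟨(n : G), hLI n.2⟩)
          (η lam : L → ℂ)]
        exact mem_lying.1 hψ'
      have hmap : ∀ ψ' : IrrCharacter I, ψ' ∈ lying L'' ηI →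
          ∃ χ : IrrCharacter G, χ ∈ A \ Z ∧ (χ : G → ℂ) = indFun I (ψ' : I → ℂ) := by
        intro ψ' hψ'
        obtain ⟨hirr, -⟩ := Corr.indFun_irr L (η lam).2 hI hLI ψ'.2 (hcv _ hψ')
        refine ⟨⟨_, hirr⟩, houter hlam ?_, rfl⟩
        have h1 : classInner (fun x : I => indFun I (ψ' : I → ℂ) x) (ψ' : I → ℂ) ≠ 0 := by
          rw [← classInner_indFun_right I _ (IsIrr.classFun hirr), classInner_self_irr hirr]
          exact one_ne_zero
        obtain ⟨-, h2, -⟩ := Corr.core L (η lam).2 hI hLI ψ'.2 (hcv _ hψ') hirr h1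
        exact h2 ▸ hcv _ hψ'
      obtain ⟨χ, hχ, e1⟩ := hmap a ha
      obtain ⟨χ', hχ', e2⟩ := hmap a' ha'
      obtain ⟨-, huniq⟩ := Corr.indFun_irr L (η lam).2 hI hLI a'.2 (hcv _ ha')
      refine Subtype.ext (huniq _ a.2 (hcv _ ha) ?_)
      rw [← e1, ← e2, Finset.card_le_one.1 hAZ _ hχ _ hχ']
    obtain ⟨e, he⟩ := sum_sq hηIi hinvI
    have hsq' : IsSquare (L''.index) := by
      rw [Subgroup.index_eq_card, he]
      rcases Nat.le_one_iff_eq_zero_or_eq_one.1 hone with h | h
      · rw [Finset.card_eq_zero.1 h, Finset.sum_empty]; exact IsSquare.zero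
      · obtain ⟨a, ha⟩ := Finset.card_eq_one.1 h
        rw [ha, Finset.sum_singleton, pow_two]; exact IsSquare.mul_self _
    have hst : (MulAction.stabilizer (T ⧸ L') lam).comap (QuotientGroup.mk' L') = I.subgroupOf T := by
      ext t
      show (t : T ⧸ L') • lam = lam ↔ (t : G) ∈ I
      rw [hsmul]
      constructor
      · intro h
        refine congrArg Subtype.val (hηu (hblk t.2 (hη lam)) ?_ : conjPerm L (t : G) (η lam) = η lam)
        have h' := hconj (g := (t : G)) (hηr lam)
        suffices hl : lam.comp (conjEquivN P (t : G)).toMonoidHom = lam by rwa [hl] at h'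
        conv_lhs => rw [← h]
        refine MonoidHom.ext fun x => congrArg lam (Subtype.ext ?_)
        show ((conjEquivN P (t : G)⁻¹ (conjEquivN P (t : G) x) : P) : G) = x
        rw [conjEquivN_apply, conjEquivN_apply]
        group
      · intro h
        have h' := hconj (g := (t : G)) (hηr lam)
        rw [show conjPerm L (t : G) (η lam) = η lam from Subtype.ext h] at h'
        have hl := (hηr lam).unique h'
        conv_lhs => rw [hl]
        refine MonoidHom.ext fun x => congrArg lam (Subtype.ext ?_)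
        show ((conjEquivN P (t : G) (conjEquivN P (t : G)⁻¹ x) : P) : G) = x
        rw [conjEquivN_apply, conjEquivN_apply]
        group
    set S := MulAction.stabilizer (T ⧸ L') lam
    have h1 := (I.subgroupOf T).card_mul_index
    rw [← hst, Subgroup.index_comap_of_surjective _ (QuotientGroup.mk'_surjective L'), hst,
      Nat.card_congr (Subgroup.subgroupOfEquivOfLe hIT).toEquiv] at h1
    have h2 := Subgroup.card_mul_index L''
    rw [Nat.card_congr (Subgroup.subgroupOfEquivOfLe hLI).toEquiv] at h2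
    have h3 := L'.card_mul_index
    rw [Nat.card_congr (Subgroup.subgroupOfEquivOfLe hLT).toEquiv, Subgroup.index_eq_card,
      ← S.card_mul_index] at h3
    rw [← h2, ← h3] at h1
    have hcancel : L''.index = Nat.card S := by
      refine Nat.eq_of_mul_eq_mul_left (Nat.card_pos (α := L)) (Nat.eq_of_mul_eq_mul_right
        (Nat.pos_of_ne_zero S.index_ne_zero_of_finite) ?_)
      rw [h1]
      ring
    exact hcancel ▸ hsq'
  obtain ⟨e, he⟩ := sum_sq hθTi hinvT
  have hd' : Data (T ⧸ L') (P →* ℂˣ) p n :=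
    { prime := hp
      pos := hnpos
      card := hVc.trans hn
      exp := hexp
      trans := htr
      square := hsq
      squares := by
        rw [he]
        rcases (show (lying L' θT).card = 0 ∨ (lying L' θT).card = 1 ∨ (lying L' θT).card = 2 by omega)
          with h | h | h
        · exact ⟨0, 0, by rw [Finset.card_eq_zero.1 h]; simp⟩
        · obtain ⟨a, ha⟩ := Finset.card_eq_one.1 h
          exact ⟨e a, 0, by rw [ha]; simp⟩
        · obtain ⟨a, a', hne, ha⟩ := Finset.card_eq_two.1 h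
          exact ⟨e a, e a', by rw [ha, Finset.sum_pair hne]⟩
      good := fun x y hx hy hcx hcy => good_conj hθTi hinvT htwo hx hy hcx hcy }
  rw [← hVc]
  exact hd'.card_small

end Cfsg.Agent.Transfer.KThree
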