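import Cfsg.Agent.Lib.Transfer.KThree.Block
import Cfsg.Agent.Lib.Char.NormalDefectNilpotent

/-!
A normal defect group whose block has at most three characters of height zero has abelianisation
of order two or three, hence order two or three.
-/

namespace Cfsg.Agent.Transfer.KThree

open Cfsg Cfsg.Agent.Block Cfsg.Agent.Char Cfsg.Agent.Char.QuotDefect

set_option linter.unusedSectionVars false
set_option linter.style.haveILetI false

universe u

variable {G : Type u} [Group G] [Fintype G] {p : ℕ} [Fact p.Prime] {M : Ideal AlgInt}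

/-- The reduction to the abelian case. -/
theorem normal_small (hM : IsPModular p M) {B : Set (IrrCharacter G)} (hB : IsPBlock M B)
    {P : Subgroup G} [hPn : P.Normal] (hP : IsDefectGroup p M B P) (hP1 : P ≠ ⊥)
    (hk : Nat.card {χ : IrrCharacter G // χ ∈ B ∧ blockHeight p B (χ : G → ℂ) = 0} ≤ 3) :
    Nat.card P = 2 ∨ Nat.card P = 3 := by
  classical
  have hpp : p.Prime := Fact.out
  have hPp : IsPGroup p P := IsDefectGroup.isPGroup hP
  haveI : (⁅P, P⁆ : Subgroup G).Normal := Subgroup.commutator_normal P P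
  set N : Subgroup G := ⁅P, P⁆ with hN
  have hNP : N ≤ P := Subgroup.commutator_le_right P P
  have hNp : IsPGroup p N := hPp.to_le hNP
  set π₀ := QuotientGroup.mk' N with hπ₀
  letI := Fintype.ofFinite (G ⧸ N)
  set Pb := P.map π₀ with hPb
  haveI : Pb.Normal := hPn.map π₀ (QuotientGroup.mk'_surjective N)
  have hab : ∀ v ∈ Pb, ∀ w ∈ Pb, v * w = w * v := by
    rintro _ ⟨a, ha, rfl⟩ _ ⟨b, hb, rfl⟩
    show ((a * b : G) : G ⧸ N) = ((b * a : G) : G ⧸ N)
    rw [QuotientGroup.eq, show (a * b)⁻¹ * (b * a) = b⁻¹ * a⁻¹ * (b⁻¹)⁻¹ * (a⁻¹)⁻¹ by group,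
      ← commutatorElement_def]
    exact Subgroup.commutator_mem_commutator (inv_mem hb) (inv_mem ha)
  obtain ⟨Bb, hBb, hsub, hexact⟩ := exists_exact N hM hNp hB
  have hDb : IsDefectGroup p M Bb Pb := (hexact Pb).2 ⟨P, hP, rfl⟩
  have hcardN : Nat.card G = Nat.card (G ⧸ N) * Nat.card N :=
    Subgroup.card_eq_card_quotient_mul_card_subgroup N
  have h1 : Nat.card Pb * Nat.card N = Nat.card P := by
    have h2 := Subgroup.card_mul_index (N.subgroupOf P)
    rw [Nat.card_congr (Subgroup.subgroupOfEquivOfLe hNP).toEquiv] at h2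
    rw [← h2, mul_comm]
    congr 1
    rw [hPb, ← MonoidHom.restrict_range, ← Subgroup.index_ker, MonoidHom.ker_restrict, hπ₀,
      QuotientGroup.ker_mk']
  -- inflations of height zero
  have hheight : ∀ χ, χ ∈ Bb → blockHeight p B (qinfl N χ : G → ℂ) = 0 := by
    intro χ hχ
    have h0 := (blockHeight_zero_iff hM hBb hχ).1 ((normal_defect_comm_iff hM hBb hDb).1 hab χ hχ)
    refine (blockHeight_zero_iff hM hB (hsub hχ)).2 ?_
    have hdd : charDegree (qinfl N χ : G → ℂ) = charDegree (χ : G ⧸ N → ℂ) := rfl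
    have h2 := congrArg (fun n => n.factorization p) h1
    rw [card_defectGroup hM hBb hDb, card_defectGroup hM hB hP] at h2
    simp only [Nat.factorization_mul (pow_ne_zero _ hpp.ne_zero) Nat.card_pos.ne', Finsupp.add_apply,
      hpp.factorization_pow, Finsupp.single_eq_same] at h2
    rw [hcardN, Nat.factorization_mul Nat.card_pos.ne' Nat.card_pos.ne', Finsupp.add_apply, hdd]
    omega
  have hkb : Nat.card Bb ≤ 3 := by
    refine le_trans (Nat.card_le_card_of_injective (fun χ : Bb =>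
      (⟨qinfl N (χ : IrrCharacter (G ⧸ N)), hsub χ.2, hheight _ χ.2⟩ :
        {χ : IrrCharacter G // χ ∈ B ∧ blockHeight p B (χ : G → ℂ) = 0})) fun a a' h => ?_) hk
    refine Subtype.ext (Subtype.ext (funext fun q => ?_))
    obtain ⟨g, rfl⟩ := QuotientGroup.mk_surjective q
    exact congrFun (congrArg Subtype.val (congrArg Subtype.val h)) g
  have hcomm : ∀ a ∈ commutator P, (a : G) ∈ N := fun a ha => by
    rw [hN, ← Subgroup.map_subtype_commutator]
    exact ⟨a, ha, rfl⟩
  have hmem : ∀ {a : P}, (a : G) ∈ N → a ∈ commutator P := fun {a} ha => by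
    rw [hN, ← Subgroup.map_subtype_commutator] at ha
    obtain ⟨w, hw, hwe⟩ := ha
    rwa [← Subtype.ext hwe]
  have hPb1 : Pb ≠ ⊥ := by
    intro h
    refine hP1 ?_
    have htop : (⊥ : Subgroup P) ⊔ frattini P = ⊤ := by
      rw [bot_sup_eq, eq_top_iff]
      intro a _
      refine Cfsg.Agent.Grp.pGroup_commutator_le_frattini hPp (hmem ?_)
      have h2 : π₀ (a : G) ∈ Pb := ⟨a, a.2, rfl⟩
      rw [h, Subgroup.mem_bot] at h2
      exact (QuotientGroup.eq_one_iff _).1 h2
    have h3 : (⊥ : Subgroup P) = ⊤ := frattini_nongenerating htop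
    refine (Subgroup.eq_bot_iff_forall _).2 fun x hx => ?_
    have h4 : (⟨x, hx⟩ : P) ∈ (⊥ : Subgroup P) := by rw [h3]; exact Subgroup.mem_top _
    exact congrArg Subtype.val (Subgroup.mem_bot.1 h4)
  have hsmall := abelian_small hM hBb hDb hab hPb1 hkb
  -- the group is cyclic
  haveI : Fact (Nat.card Pb).Prime := ⟨by rcases hsmall with h | h <;> rw [h] <;> norm_num⟩
  haveI : Nontrivial Pb := (Subgroup.nontrivial_iff_ne_bot Pb).2 hPb1
  obtain ⟨⟨_, x, hx, rfl⟩, hne⟩ := exists_ne (1 : Pb)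
  have htop : Subgroup.zpowers (⟨x, hx⟩ : P) ⊔ frattini P = ⊤ := by
    rw [eq_top_iff]
    intro a _
    have h2 : (⟨π₀ a, ⟨a, a.2, rfl⟩⟩ : Pb) ∈ Subgroup.zpowers (⟨π₀ x, ⟨x, hx, rfl⟩⟩ : Pb) :=
      mem_zpowers_of_prime_card rfl hne
    obtain ⟨k, hk'⟩ := Subgroup.mem_zpowers_iff.1 h2
    have h3 : π₀ (x ^ k) = π₀ (a : G) := by
      rw [map_zpow]
      simpa using congrArg Subtype.val hk'
    have h4 : (⟨x, hx⟩ : P) ^ (-k) * a ∈ commutator P := by
      refine hmem ?_
      rw [← QuotientGroup.eq_one_iff, Subgroup.coe_mul, Subgroup.coe_zpow]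
      show π₀ (x ^ (-k) * (a : G)) = 1
      rw [map_mul, ← h3, ← map_mul, ← zpow_add, neg_add_cancel, zpow_zero, map_one]
    have h5 := Subgroup.mul_mem _
      (Subgroup.mem_sup_left (T := frattini P) (zpow_mem (Subgroup.mem_zpowers (⟨x, hx⟩ : P)) k))
      (Subgroup.mem_sup_right (Cfsg.Agent.Grp.pGroup_commutator_le_frattini hPp h4))
    rwa [zpow_neg, mul_inv_cancel_left] at h5
  have hcyc : Subgroup.zpowers (⟨x, hx⟩ : P) = ⊤ := frattini_nongenerating htop
  have hN1 : N = ⊥ := by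
    rw [hN, Subgroup.commutator_eq_bot_iff_le_centralizer]
    intro a ha
    refine Subgroup.mem_centralizer_iff.2 fun c hc => ?_
    obtain ⟨i, hi⟩ := Subgroup.mem_zpowers_iff.1 (hcyc ▸ Subgroup.mem_top (⟨a, ha⟩ : P))
    obtain ⟨j, hj⟩ := Subgroup.mem_zpowers_iff.1 (hcyc ▸ Subgroup.mem_top (⟨c, hc⟩ : P))
    have := zpow_mul_comm (⟨x, hx⟩ : P) j i
    rw [hi, hj] at this
    exact congrArg Subtype.val this
  have hN1c : Nat.card N = 1 := by rw [hN1]; exact Subgroup.card_bot
  rw [← h1, hN1c, mul_one]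
  exact hsmall

end Cfsg.Agent.Transfer.KThree
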